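import Mathlib
import Cfsg.Prelude.Def_Classification2
import Cfsg.Prelude.Def_LieTypeChar
import Cfsg.Prelude.Def_ClassificationK
set_option linter.all false

/-!
# The known simple groups: invariance and rough types

* `congr` lemmas for the predicates of the list;
* `classify`: a known simple non-abelian group is alternating, of Lie type in odd characteristic, of Lie type in
  characteristic 2 (Tits group included) or sporadic;
* `known_section`: simple sections of proper subgroups of a K-proper group.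
-/

set_option autoImplicit false
set_option linter.style.haveILetI false

namespace Cfsg.Agent.OddHalf.Known

open Subgroup Cfsg

universe u v

variable {X : Type u} {Y : Type v} [Group X] [Group Y]

theorem isAlternating_congr (e : X ≃* Y) (h : IsAlternating X) : IsAlternating Y := by
  obtain ⟨n, hn, ⟨f⟩⟩ := h
  exact ⟨n, hn, ⟨e.symm.trans f⟩⟩

theorem isSporadic_congr (e : X ≃* Y) (h : IsSporadicGroup X) : IsSporadicGroup Y := by
  have key : ∀ {M : Type} [Group M], Nonempty (X ≃* M) → Nonempty (Y ≃* M) :=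
    fun ⟨f⟩ => ⟨e.symm.trans f⟩
  rcases h with h | h | h | h | h | h | h | h | h | h | h | h | h | h | h | h | h | h |
      h | h | h | h | h | h | h | h
  · exact Or.inl (key h)
  · exact Or.inr (Or.inl (key h))
  · exact Or.inr (Or.inr (Or.inl (key h)))
  · exact Or.inr (Or.inr (Or.inr (Or.inl (key h))))
  · exact Or.inr (Or.inr (Or.inr (Or.inr (Or.inl (key h)))))
  · exact Or.inr (Or.inr (Or.inr (Or.inr (Or.inr (Or.inl (key h))))))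
  · exact Or.inr (Or.inr (Or.inr (Or.inr (Or.inr (Or.inr (Or.inl (key h)))))))
  · obtain ⟨F, i1, i2, w, h1, h2, ⟨f⟩⟩ := h
    exact Or.inr (Or.inr (Or.inr (Or.inr (Or.inr (Or.inr (Or.inr (Or.inl
      ⟨F, i1, i2, w, h1, h2, ⟨e.symm.trans f⟩⟩)))))))
  · exact Or.inr (Or.inr (Or.inr (Or.inr (Or.inr (Or.inr (Or.inr (Or.inr (Or.inl (key h)))))))))
  · exact Or.inr (Or.inr (Or.inr (Or.inr (Or.inr (Or.inr (Or.inr (Or.inr (Or.inr (Or.inl (key h))))))))))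
  · exact Or.inr (Or.inr (Or.inr (Or.inr (Or.inr (Or.inr (Or.inr (Or.inr (Or.inr (Or.inr (Or.inl
      (key h)))))))))))
  · exact Or.inr (Or.inr (Or.inr (Or.inr (Or.inr (Or.inr (Or.inr (Or.inr (Or.inr (Or.inr (Or.inr (Or.inl
      (key h))))))))))))
  · exact Or.inr (Or.inr (Or.inr (Or.inr (Or.inr (Or.inr (Or.inr (Or.inr (Or.inr (Or.inr (Or.inr (Or.inr
      (Or.inl (key h)))))))))))))
  · exact Or.inr (Or.inr (Or.inr (Or.inr (Or.inr (Or.inr (Or.inr (Or.inr (Or.inr (Or.inr (Or.inr (Or.inr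
      (Or.inr (Or.inl (key h))))))))))))))
  · exact Or.inr (Or.inr (Or.inr (Or.inr (Or.inr (Or.inr (Or.inr (Or.inr (Or.inr (Or.inr (Or.inr (Or.inr
      (Or.inr (Or.inr (Or.inl (key h)))))))))))))))
  · exact Or.inr (Or.inr (Or.inr (Or.inr (Or.inr (Or.inr (Or.inr (Or.inr (Or.inr (Or.inr (Or.inr (Or.inr
      (Or.inr (Or.inr (Or.inr (Or.inl (key h))))))))))))))))
  · exact Or.inr (Or.inr (Or.inr (Or.inr (Or.inr (Or.inr (Or.inr (Or.inr (Or.inr (Or.inr (Or.inr (Or.inr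
      (Or.inr (Or.inr (Or.inr (Or.inr (Or.inl (key h)))))))))))))))))
  · exact Or.inr (Or.inr (Or.inr (Or.inr (Or.inr (Or.inr (Or.inr (Or.inr (Or.inr (Or.inr (Or.inr (Or.inr
      (Or.inr (Or.inr (Or.inr (Or.inr (Or.inr (Or.inl (key h))))))))))))))))))
  · exact Or.inr (Or.inr (Or.inr (Or.inr (Or.inr (Or.inr (Or.inr (Or.inr (Or.inr (Or.inr (Or.inr (Or.inr
      (Or.inr (Or.inr (Or.inr (Or.inr (Or.inr (Or.inr (Or.inl (key h)))))))))))))))))))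
  · exact Or.inr (Or.inr (Or.inr (Or.inr (Or.inr (Or.inr (Or.inr (Or.inr (Or.inr (Or.inr (Or.inr (Or.inr
      (Or.inr (Or.inr (Or.inr (Or.inr (Or.inr (Or.inr (Or.inr (Or.inl (key h))))))))))))))))))))
  · exact Or.inr (Or.inr (Or.inr (Or.inr (Or.inr (Or.inr (Or.inr (Or.inr (Or.inr (Or.inr (Or.inr (Or.inr
      (Or.inr (Or.inr (Or.inr (Or.inr (Or.inr (Or.inr (Or.inr (Or.inr (Or.inl (key h)))))))))))))))))))))
  · exact Or.inr (Or.inr (Or.inr (Or.inr (Or.inr (Or.inr (Or.inr (Or.inr (Or.inr (Or.inr (Or.inr (Or.inr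
      (Or.inr (Or.inr (Or.inr (Or.inr (Or.inr (Or.inr (Or.inr (Or.inr (Or.inr (Or.inl
      (key h))))))))))))))))))))))
  · exact Or.inr (Or.inr (Or.inr (Or.inr (Or.inr (Or.inr (Or.inr (Or.inr (Or.inr (Or.inr (Or.inr (Or.inr
      (Or.inr (Or.inr (Or.inr (Or.inr (Or.inr (Or.inr (Or.inr (Or.inr (Or.inr (Or.inr (Or.inl
      (key h)))))))))))))))))))))))
  · exact Or.inr (Or.inr (Or.inr (Or.inr (Or.inr (Or.inr (Or.inr (Or.inr (Or.inr (Or.inr (Or.inr (Or.inr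
      (Or.inr (Or.inr (Or.inr (Or.inr (Or.inr (Or.inr (Or.inr (Or.inr (Or.inr (Or.inr (Or.inr (Or.inl
      (key h))))))))))))))))))))))))
  · exact Or.inr (Or.inr (Or.inr (Or.inr (Or.inr (Or.inr (Or.inr (Or.inr (Or.inr (Or.inr (Or.inr (Or.inr
      (Or.inr (Or.inr (Or.inr (Or.inr (Or.inr (Or.inr (Or.inr (Or.inr (Or.inr (Or.inr (Or.inr (Or.inr
      (Or.inl (key h)))))))))))))))))))))))))
  · exact Or.inr (Or.inr (Or.inr (Or.inr (Or.inr (Or.inr (Or.inr (Or.inr (Or.inr (Or.inr (Or.inr (Or.inr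
      (Or.inr (Or.inr (Or.inr (Or.inr (Or.inr (Or.inr (Or.inr (Or.inr (Or.inr (Or.inr (Or.inr (Or.inr
      (Or.inr (key h)))))))))))))))))))))))))

theorem isLieTypeChar_congr {p : ℕ} (e : X ≃* Y) (h : IsLieTypeChar p X) : IsLieTypeChar p Y := by
  rcases h with h | h | h | h | h | h | h | h | ⟨hp, h⟩ | ⟨hp, h⟩ | ⟨hp, h⟩
  · obtain ⟨F, _, _, _, n, h1, h2, ⟨f⟩⟩ := h
    exact Or.inl ⟨F, _, _, inferInstance, n, h1, h2, ⟨e.symm.trans f⟩⟩
  · obtain ⟨F, _, _, _, m, h1, h2, ⟨f⟩⟩ := h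
    exact Or.inr (Or.inl ⟨F, _, _, inferInstance, m, h1, h2, ⟨e.symm.trans f⟩⟩)
  · obtain ⟨F, _, _, _, n, q, h1, h2, h3, ⟨f⟩⟩ := h
    exact Or.inr (Or.inr (Or.inl ⟨F, _, _, inferInstance, n, q, h1, h2, h3, ⟨e.symm.trans f⟩⟩))
  · obtain ⟨F, _, _, _, m, h1, h2, ⟨f⟩⟩ := h
    exact Or.inr (Or.inr (Or.inr (Or.inl ⟨F, _, _, inferInstance, m, h1, h2, ⟨e.symm.trans f⟩⟩)))
  · obtain ⟨F, i1, i2, i3, m, h1, ⟨f⟩⟩ := h
    exact Or.inr (Or.inr (Or.inr (Or.inr (Or.inl ⟨F, i1, i2, i3, m, h1,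
      ⟨e.symm.trans f⟩⟩))))
  · obtain ⟨F, i1, i2, i3, m, a, b, h1, h2, ⟨f⟩⟩ := h
    exact Or.inr (Or.inr (Or.inr (Or.inr (Or.inr (Or.inl ⟨F, i1, i2, i3, m, a, b, h1, h2,
      ⟨e.symm.trans f⟩⟩)))))
  · obtain ⟨F, i1, i2, i3, h⟩ := h
    refine Or.inr (Or.inr (Or.inr (Or.inr (Or.inr (Or.inr (Or.inl ⟨F, i1, i2, i3, ?_⟩))))))
    rcases h with ⟨h1, ⟨f⟩⟩ | ⟨⟨f⟩⟩ | ⟨⟨f⟩⟩ | ⟨⟨f⟩⟩ | ⟨⟨f⟩⟩
    · exact Or.inl ⟨h1, ⟨e.symm.trans f⟩⟩
    · exact Or.inr (Or.inl ⟨e.symm.trans f⟩)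
    · exact Or.inr (Or.inr (Or.inl ⟨e.symm.trans f⟩))
    · exact Or.inr (Or.inr (Or.inr (Or.inl ⟨e.symm.trans f⟩)))
    · exact Or.inr (Or.inr (Or.inr (Or.inr ⟨e.symm.trans f⟩)))
  · obtain ⟨F, i1, i2, i3, q, hq, h⟩ := h
    refine Or.inr (Or.inr (Or.inr (Or.inr (Or.inr (Or.inr (Or.inr (Or.inl ⟨F, i1, i2, i3, q, hq,
      ?_⟩)))))))
    rcases h with ⟨h1, ⟨f⟩⟩ | ⟨h1, ⟨f⟩⟩
    · exact Or.inl ⟨h1, ⟨e.symm.trans f⟩⟩
    · exact Or.inr ⟨h1, ⟨e.symm.trans f⟩⟩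
  · obtain ⟨F, _, _, m, h1, h2, ⟨f⟩⟩ := h
    exact Or.inr (Or.inr (Or.inr (Or.inr (Or.inr (Or.inr (Or.inr (Or.inr (Or.inl ⟨hp, F, _, _, m, h1, h2,
      ⟨e.symm.trans f⟩⟩))))))))
  · obtain ⟨F, _, _, m, h1, h2, ⟨f⟩⟩ := h
    exact Or.inr (Or.inr (Or.inr (Or.inr (Or.inr (Or.inr (Or.inr (Or.inr (Or.inr (Or.inl ⟨hp, F, _, _, m,
      h1, h2, ⟨e.symm.trans f⟩⟩)))))))))
  · obtain ⟨F, _, _, m, h1, h2, ⟨f⟩⟩ := h
    exact Or.inr (Or.inr (Or.inr (Or.inr (Or.inr (Or.inr (Or.inr (Or.inr (Or.inr (Or.inr ⟨hp, F, _, _, m,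
      h1, h2, ⟨e.symm.trans f⟩⟩)))))))))

theorem isoTits_congr (e : X ≃* Y) (h : Lie.IsoTits X) : Lie.IsoTits Y := by
  obtain ⟨f⟩ := h
  exact ⟨e.symm.trans f⟩

/-- Lie type in some characteristic. -/
def IsLie (X : Type u) [Group X] : Prop := ∃ p : ℕ, p.Prime ∧ IsLieTypeChar p X

theorem char_cases {F : Type} [Field F] [Fintype F] : ∃ p : ℕ, p.Prime ∧ CharP F p := by
  obtain ⟨p, hp⟩ := CharP.exists F
  exact ⟨p, (CharP.char_is_prime F p), hp⟩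

theorem isLie_exc {F : Type} [Field F] [Fintype F]
    (h : (3 ≤ Fintype.card F ∧ Nonempty (X ≃* Lie.chevG2.group F)) ∨ Nonempty (X ≃* Lie.chevF4.group F) ∨
      Nonempty (X ≃* Lie.chevE6.group F) ∨ Nonempty (X ≃* Lie.chevE7.group F) ∨
      Nonempty (X ≃* Lie.chevE8.group F)) : IsLie X := by
  obtain ⟨p, hp, hc⟩ := char_cases (F := F)
  exact ⟨p, hp, Or.inr (Or.inr (Or.inr (Or.inr (Or.inr (Or.inr (Or.inl ⟨F, _, _, hc, h⟩))))))⟩

/-- The rough type of a known simple group. -/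
theorem classify' (hna : ¬ IsMulCommutative X) (h : IsKnownSimple' X) :
    IsAlternating X ∨ IsLie X ∨ Lie.IsoTits X ∨ IsSporadicGroup X := by
  rcases h with h | h | h | h | h | h | h | h | h | h
  · exfalso
    apply hna
    have h1 : Fact (Nat.card X).Prime := ⟨h⟩
    have h2 : IsCyclic X := isCyclic_of_prime_card (p := Nat.card X) rfl
    exact IsCyclic.isMulCommutative
  · exact Or.inl h
  · obtain ⟨F, _, _, n, h1, h2, f⟩ := h
    obtain ⟨p, hp, hc⟩ := char_cases (F := F)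
    exact Or.inr (Or.inl ⟨p, hp, Or.inl ⟨F, _, _, hc, n, h1, h2, f⟩⟩)
  · obtain ⟨F, _, _, n, h1, h2, f⟩ := h
    obtain ⟨p, hp, hc⟩ := char_cases (F := F)
    exact Or.inr (Or.inl ⟨p, hp, Or.inr (Or.inl ⟨F, _, _, hc, n, h1, h2, f⟩)⟩)
  · obtain ⟨F, _, _, n, q, h1, h2, h3, f⟩ := h
    obtain ⟨p, hp, hc⟩ := char_cases (F := F)
    exact Or.inr (Or.inl ⟨p, hp, Or.inr (Or.inr (Or.inl ⟨F, _, _, hc, n, q, h1, h2, h3, f⟩))⟩)
  · obtain ⟨F, _, _, m, h1, h2, f⟩ := h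
    obtain ⟨p, hp, hc⟩ := char_cases (F := F)
    exact Or.inr (Or.inl ⟨p, hp, Or.inr (Or.inr (Or.inr (Or.inl ⟨F, _, _, hc, m, h1, h2, f⟩)))⟩)
  · obtain ⟨F, i1, i2, m, h1, f⟩ := h
    obtain ⟨p, hp, hc⟩ := char_cases (F := F)
    exact Or.inr (Or.inl ⟨p, hp, Or.inr (Or.inr (Or.inr (Or.inr (Or.inl ⟨F, i1, i2, hc, m, h1, f⟩))))⟩)
  · obtain ⟨F, i1, i2, m, a, b, h1, h2, f⟩ := h
    obtain ⟨p, hp, hc⟩ := char_cases (F := F)
    exact Or.inr (Or.inl ⟨p, hp, Or.inr (Or.inr (Or.inr (Or.inr (Or.inr (Or.inl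
      ⟨F, i1, i2, hc, m, a, b, h1, h2, f⟩)))))⟩)
  · rcases h with h | h | h | h | h | h | h | h | h | h | h
    · obtain ⟨F, _, _, h1, f⟩ := h
      exact Or.inr (Or.inl (isLie_exc (F := F) (Or.inl ⟨h1, f⟩)))
    · obtain ⟨F, _, _, f⟩ := h
      exact Or.inr (Or.inl (isLie_exc (F := F) (Or.inr (Or.inl f))))
    · obtain ⟨F, _, _, f⟩ := h
      exact Or.inr (Or.inl (isLie_exc (F := F) (Or.inr (Or.inr (Or.inl f)))))
    · obtain ⟨F, _, _, f⟩ := h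
      exact Or.inr (Or.inl (isLie_exc (F := F) (Or.inr (Or.inr (Or.inr (Or.inl f))))))
    · obtain ⟨F, _, _, f⟩ := h
      exact Or.inr (Or.inl (isLie_exc (F := F) (Or.inr (Or.inr (Or.inr (Or.inr f))))))
    · obtain ⟨F, _, _, q, h1, h2, f⟩ := h
      obtain ⟨p, hp, hc⟩ := char_cases (F := F)
      exact Or.inr (Or.inl ⟨p, hp, Or.inr (Or.inr (Or.inr (Or.inr (Or.inr (Or.inr (Or.inr (Or.inl
        ⟨F, _, _, hc, q, h1, Or.inl ⟨h2, f⟩⟩)))))))⟩)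
    · obtain ⟨F, _, _, q, h1, h2, f⟩ := h
      obtain ⟨p, hp, hc⟩ := char_cases (F := F)
      exact Or.inr (Or.inl ⟨p, hp, Or.inr (Or.inr (Or.inr (Or.inr (Or.inr (Or.inr (Or.inr (Or.inl
        ⟨F, _, _, hc, q, h1, Or.inr ⟨h2, f⟩⟩)))))))⟩)
    · exact Or.inr (Or.inl ⟨2, Nat.prime_two, Or.inr (Or.inr (Or.inr (Or.inr (Or.inr (Or.inr (Or.inr (Or.inr
        (Or.inl ⟨rfl, h⟩))))))))⟩)
    · exact Or.inr (Or.inl ⟨3, Nat.prime_three, Or.inr (Or.inr (Or.inr (Or.inr (Or.inr (Or.inr (Or.inr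
        (Or.inr (Or.inr (Or.inr ⟨rfl, h⟩)))))))))⟩)
    · exact Or.inr (Or.inl ⟨2, Nat.prime_two, Or.inr (Or.inr (Or.inr (Or.inr (Or.inr (Or.inr (Or.inr (Or.inr
        (Or.inr (Or.inl ⟨rfl, h⟩)))))))))⟩)
    · exact Or.inr (Or.inr (Or.inl h))
  · exact Or.inr (Or.inr (Or.inr h))

/-- Alternating, odd Lie, even Lie (with Tits), sporadic. -/
theorem classify (hna : ¬ IsMulCommutative X) (h : IsKnownSimple' X) :
    IsAlternating X ∨ (∃ p : ℕ, p.Prime ∧ p ≠ 2 ∧ IsLieTypeChar p X) ∨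
      (IsLieTypeChar 2 X ∨ Lie.IsoTits X) ∨ IsSporadicGroup X := by
  rcases classify' hna h with h | ⟨p, hp, h⟩ | h | h
  · exact Or.inl h
  · by_cases h2 : p = 2
    · subst h2
      exact Or.inr (Or.inr (Or.inl (Or.inl h)))
    · exact Or.inr (Or.inl ⟨p, hp, h2, h⟩)
  · exact Or.inr (Or.inr (Or.inl (Or.inr h)))
  · exact Or.inr (Or.inr (Or.inr h))

/-- Known simple groups: invariance. -/
theorem known_congr (e : X ≃* Y) (hna : ¬ IsMulCommutative X) (h : IsKnownSimple' X) :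
    IsAlternating Y ∨ IsLie Y ∨ Lie.IsoTits Y ∨ IsSporadicGroup Y := by
  rcases classify' hna h with h | ⟨p, hp, h⟩ | h | h
  · exact Or.inl (isAlternating_congr e h)
  · exact Or.inr (Or.inl ⟨p, hp, isLieTypeChar_congr e h⟩)
  · exact Or.inr (Or.inr (Or.inl (isoTits_congr e h)))
  · exact Or.inr (Or.inr (Or.inr (isSporadic_congr e h)))

/-- A group of Lie type is a known simple group. -/
theorem known_of_isLie {p : ℕ} (h : IsLieTypeChar p X) : IsKnownSimple' X := by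
  rcases h with h | h | h | h | h | h | h | h | ⟨hp, h⟩ | ⟨hp, h⟩ | ⟨hp, h⟩
  · obtain ⟨F, _, _, _, n, h1, h2, f⟩ := h
    exact Or.inr (Or.inr (Or.inl ⟨F, _, _, n, h1, h2, f⟩))
  · obtain ⟨F, _, _, _, m, h1, h2, f⟩ := h
    exact Or.inr (Or.inr (Or.inr (Or.inl ⟨F, _, _, m, h1, h2, f⟩)))
  · obtain ⟨F, _, _, _, n, q, h1, h2, h3, f⟩ := h
    exact Or.inr (Or.inr (Or.inr (Or.inr (Or.inl ⟨F, _, _, n, q, h1, h2, h3, f⟩))))
  · obtain ⟨F, _, _, _, m, h1, h2, f⟩ := h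
    exact Or.inr (Or.inr (Or.inr (Or.inr (Or.inr (Or.inl ⟨F, _, _, m, h1, h2, f⟩)))))
  · obtain ⟨F, i1, i2, _, m, h1, f⟩ := h
    exact Or.inr (Or.inr (Or.inr (Or.inr (Or.inr (Or.inr (Or.inl ⟨F, i1, i2, m, h1, f⟩))))))
  · obtain ⟨F, i1, i2, _, m, a, b, h1, h2, f⟩ := h
    exact Or.inr (Or.inr (Or.inr (Or.inr (Or.inr (Or.inr (Or.inr (Or.inl ⟨F, i1, i2, m, a, b, h1, h2, f⟩)))))))
  · obtain ⟨F, i1, i2, _, h⟩ := h
    have key : IsExceptionalLieType X → IsKnownSimple' X :=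
      fun h => Or.inr (Or.inr (Or.inr (Or.inr (Or.inr (Or.inr (Or.inr (Or.inr (Or.inl h))))))))
    apply key
    rcases h with ⟨h1, f⟩ | f | f | f | f
    · exact Or.inl ⟨F, i1, i2, h1, f⟩
    · exact Or.inr (Or.inl ⟨F, i1, i2, f⟩)
    · exact Or.inr (Or.inr (Or.inl ⟨F, i1, i2, f⟩))
    · exact Or.inr (Or.inr (Or.inr (Or.inl ⟨F, i1, i2, f⟩)))
    · exact Or.inr (Or.inr (Or.inr (Or.inr (Or.inl ⟨F, i1, i2, f⟩))))
  · obtain ⟨F, i1, i2, _, q, hq, h⟩ := h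
    have key : IsExceptionalLieType X → IsKnownSimple' X :=
      fun h => Or.inr (Or.inr (Or.inr (Or.inr (Or.inr (Or.inr (Or.inr (Or.inr (Or.inl h))))))))
    apply key
    rcases h with ⟨h1, f⟩ | ⟨h1, f⟩
    · exact Or.inr (Or.inr (Or.inr (Or.inr (Or.inr (Or.inl ⟨F, i1, i2, q, hq, h1, f⟩)))))
    · exact Or.inr (Or.inr (Or.inr (Or.inr (Or.inr (Or.inr (Or.inl ⟨F, i1, i2, q, hq, h1, f⟩))))))
  · exact Or.inr (Or.inr (Or.inr (Or.inr (Or.inr (Or.inr (Or.inr (Or.inr (Or.inl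
      (Or.inr (Or.inr (Or.inr (Or.inr (Or.inr (Or.inr (Or.inr (Or.inl h))))))))))))))))
  · exact Or.inr (Or.inr (Or.inr (Or.inr (Or.inr (Or.inr (Or.inr (Or.inr (Or.inl
      (Or.inr (Or.inr (Or.inr (Or.inr (Or.inr (Or.inr (Or.inr (Or.inr (Or.inr (Or.inl h))))))))))))))))))
  · exact Or.inr (Or.inr (Or.inr (Or.inr (Or.inr (Or.inr (Or.inr (Or.inr (Or.inl
      (Or.inr (Or.inr (Or.inr (Or.inr (Or.inr (Or.inr (Or.inr (Or.inr (Or.inl h)))))))))))))))))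

theorem known_of_rough (h : IsAlternating X ∨ IsLie X ∨ Lie.IsoTits X ∨ IsSporadicGroup X) :
    IsKnownSimple' X := by
  rcases h with h | ⟨p, -, h⟩ | h | h
  · exact Or.inr (Or.inl h)
  · exact known_of_isLie h
  · exact Or.inr (Or.inr (Or.inr (Or.inr (Or.inr (Or.inr (Or.inr (Or.inr (Or.inl
      (Or.inr (Or.inr (Or.inr (Or.inr (Or.inr (Or.inr (Or.inr (Or.inr (Or.inr (Or.inr h))))))))))))))))))
  · exact Or.inr (Or.inr (Or.inr (Or.inr (Or.inr (Or.inr (Or.inr (Or.inr (Or.inr h))))))))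

/-- The predicate `IsKnownSimple'` is invariant under isomorphism (non-abelian groups). -/
theorem isKnownSimple'_congr (e : X ≃* Y) (hna : ¬ IsMulCommutative X) (h : IsKnownSimple' X) :
    IsKnownSimple' Y :=
  known_of_rough (known_congr e hna h)

theorem isSimple_congr (e : X ≃* Y) (h : IsSimpleGroup X) : IsSimpleGroup Y := by
  haveI := h
  haveI : Nontrivial Y := e.symm.toEquiv.nontrivial
  exact IsSimpleGroup.isSimpleGroup_of_surjective e.toMonoidHom e.surjective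

/-- A non-abelian simple quotient of a proper subgroup of a K-proper group is known. -/
theorem known_quotient {G : Type u} [Group G] (hK : IsKProper G) (K : Subgroup G) (hne : K ≠ ⊤)
    (N : Subgroup ↥K) [N.Normal] (hs : IsSimpleGroup (↥K ⧸ N)) (hna : ¬ IsMulCommutative (↥K ⧸ N)) :
    IsKnownSimple' (↥K ⧸ N) := by
  let e0 : ↥(⊤ : Subgroup ↥K) ≃* ↥K := Subgroup.topEquiv
  have hmap : (N.subgroupOf ⊤).map e0.toMonoidHom = N := by
    ext x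
    constructor
    · rintro ⟨y, hy, rfl⟩
      simpa [e0, mem_subgroupOf] using hy
    · intro hx
      refine ⟨⟨x, mem_top x⟩, ?_, ?_⟩
      · simpa [mem_subgroupOf] using hx
      · simp [e0]
  have e : ↥(⊤ : Subgroup ↥K) ⧸ N.subgroupOf ⊤ ≃* ↥K ⧸ N :=
    QuotientGroup.congr (N.subgroupOf ⊤) N e0 hmap
  have h1 : IsSimpleGroup (↥(⊤ : Subgroup ↥K) ⧸ N.subgroupOf ⊤) := isSimple_congr e.symm hs
  have h2 : ¬ IsMulCommutative (↥(⊤ : Subgroup ↥K) ⧸ N.subgroupOf ⊤) := by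
    intro h
    apply hna
    refine ⟨⟨fun a b => ?_⟩⟩
    apply e.symm.injective
    rw [map_mul, map_mul]
    exact h.is_comm.comm _ _
  exact isKnownSimple'_congr e h2 (hK K hne ⊤ (N.subgroupOf ⊤) h1 h2)

end Cfsg.Agent.OddHalf.Known
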