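import Mathlib
import Cfsg.Prelude.Def_Classification2
import Cfsg.Prelude.Def_LieTypeChar
import Cfsg.Prelude.Def_ClassificationK
import Cfsg.Agent.OddHalf.Small.Excl
set_option linter.all false

/-!
# The odd half (S1765): the nodes

`Ctx G`: `G` is a counterexample to S1765 which has passed the theorems that do not speak about standard
subgroups (S0482, S0500, S1310, S1311, S1726, S1728). `Std G K`: `K` is a standard component of `G` of
maximal order among all the components of involution centralizers, of 2-rank at least 2, with known simple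
quotient. The nodes say that this is impossible. `Main.lean` proves S1765 from them.
-/

set_option autoImplicit false

namespace Cfsg.Agent.OddHalf.Iface

open Subgroup Cfsg

universe u

/-- The conclusion of S1765. -/
abbrev Concl (G : Type u) [Group G] : Prop := Small.Excl.Concl G

/-- `K` is a component of `C(t)`. -/
def CompOf {G : Type u} [Group G] (t : G) (K : Subgroup G) : Prop :=
  K ≤ centralizer ({t} : Set G) ∧ IsComponent (K.subgroupOf (centralizer ({t} : Set G)))

/-- `J` is a subnormal subgroup of `C(z)` containing the involution `z`. -/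
def SubOf {G : Type u} [Group G] (z : G) (J : Subgroup G) : Prop :=
  J ≤ centralizer ({z} : Set G) ∧ z ∈ J ∧ (J.subgroupOf (centralizer ({z} : Set G))).IsSubnormal

/-- The standing hypotheses: `G` is a counterexample to S1765. Every field may be used in a node. -/
structure Ctx (G : Type u) [Group G] : Prop where
  fin : Finite G
  simple : IsSimpleGroup G
  na : ¬ IsMulCommutative G
  /-- every proper subgroup is a K-group -/
  kproper : IsKProper G
  notTwo : ¬ IsCharacteristicTwoType G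
  nc : ¬ Concl G
  /-- S1311 -/
  bal : ∀ t : G, orderOf t = 2 → centralizerPPrimeCore 2 t = ⊥
  /-- S1726 -/
  bprop : ∀ (X : Type u) [Group X] [Finite X], HasBProperty X
  strong : HasStrongBProperty G
  /-- S0482 -/
  rank3 : ¬ PRankLE 2 2 G
  /-- S0500 -/
  sect5 : ¬ SectionalPRankLE 2 4 G
  /-- S1728 -/
  core2 : ¬ HasProperTwoGeneratedCore G
  /-- S1310: no classical involution -/
  classical : ∀ (z : G) (J : Subgroup G), orderOf z = 2 → SubOf z J →
    ¬ ((∃ (F : Type) (_ : Field F) (_ : Fintype F), Odd (Fintype.card F) ∧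
        Nonempty (↥J ⧸ oddCore ↥J ≃* Matrix.SpecialLinearGroup (Fin 2) F)) ∨
      IsNonsplitDoubleCover (↥J ⧸ oddCore ↥J) ↥(alternatingGroup (Fin 7)))

/-- `PSL(2, q)`, `q ≥ 5` odd. -/
def IsL2o (X : Type u) [Group X] : Prop :=
  ∃ (F : Type) (_ : Field F) (_ : Fintype F), Odd (Fintype.card F) ∧ 5 ≤ Fintype.card F ∧
    Nonempty (X ≃* Matrix.ProjectiveSpecialLinearGroup (Fin 2) F)

/-- `K` is a terminal component. -/
structure Term0 (G : Type u) [Group G] (K : Subgroup G) : Prop where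
  /-- `K` is a component of the centralizer of some involution -/
  comp : ∃ t : G, orderOf t = 2 ∧ CompOf t K
  /-- ... and of every involution centralizing `K` -/
  term : ∀ y : G, orderOf y = 2 → y ∈ centralizer (K : Set G) → CompOf y K

/-- `K` is a terminal component of maximal order, chosen outside the groups `L₂(q)`, `q` odd, if possible. -/
structure Term (G : Type u) [Group G] (K : Subgroup G) : Prop extends Term0 G K where
  /-- if `K ≅ L₂(q)` with `q` odd, then all the components are of this type -/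
  pref : IsL2o ↥K → ∀ (y : G) (L : Subgroup G), orderOf y = 2 → CompOf y L → IsL2o ↥L
  /-- maximal order (among the components which are not `L₂(q)`, `q` odd, if there are any) -/
  max : ∀ (y : G) (L : Subgroup G), orderOf y = 2 → CompOf y L → (IsL2o ↥L → IsL2o ↥K) →
    Nat.card ↥L ≤ Nat.card ↥K

/-- Standard components, without the maximality of the order. -/
structure Std0 (G : Type u) [Group G] (K : Subgroup G) : Prop extends Term0 G K where
  std : IsStandardSubgroup K
  ne_top : K ≠ ⊤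
  /-- the centre is a 2-group -/
  z2 : IsPGroup 2 ↥(center ↥K)
  /-- 2-rank at least 2 -/
  rk2 : ¬ PRankLE 2 1 ↥K
  /-- known quotient -/
  simple : IsSimpleGroup (↥K ⧸ center ↥K)
  quo_na : ¬ IsMulCommutative (↥K ⧸ center ↥K)
  known : IsKnownSimple' (↥K ⧸ center ↥K)

/-- The standard component of the nodes. -/
structure Std (G : Type u) [Group G] (K : Subgroup G) : Prop extends Std0 G K, Term G K

/-! ### Types of components -/

/-- Lie type in odd characteristic. -/
def LieOdd (X : Type u) [Group X] : Prop := ∃ p : ℕ, p.Prime ∧ p ≠ 2 ∧ IsLieTypeChar p X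

/-- Even Lie type, Tits group included; not alternating and not of Lie type in odd characteristic. -/
def LieTwo (X : Type u) [Group X] : Prop :=
  (IsLieTypeChar 2 X ∨ Lie.IsoTits X) ∧ ¬ IsAlternating X ∧ ¬ LieOdd X

/-- Standard subgroups for which a listed statement has no hypothesis on the centralizer
(S1732 - S1737, S1747 - S1752; S1739). -/
def Listed {G : Type u} [Group G] (K : Subgroup G) : Prop :=
  -- S1732
  (∃ (F : Type) (_ : Field F) (_ : Fintype F), Fintype.card F = 8 ∧ Nonempty (↥K ≃* ↥(Lie.Sz F 4))) ∨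
  -- S1733
  (∃ (F : Type) (_ : Field F) (_ : Fintype F), Fintype.card F = 2 ∧ Nat.card ↥(center ↥K) = 2 ∧
    Nonempty (↥K ⧸ center ↥K ≃* PSp 3 F)) ∨
  -- S1734
  (∃ (E : Type) (_ : Field E) (_ : Fintype E), Fintype.card E = 4 ∧ Nat.card ↥(center ↥K) = 2 ∧
    Nonempty (↥K ⧸ center ↥K ≃* PSU 6 E 2)) ∨
  (∃ (F : Type) (_ : Field F) (_ : Fintype F), Fintype.card F = 2 ∧
    (Nonempty (↥K ≃* PSp 3 F) ∨ Nonempty (↥K ≃* POmega F (quadFormPlus 4 F)))) ∨
  -- S1735
  (Nat.card ↥(center ↥K) = 2 ∧ Nonempty (↥K ⧸ center ↥K ≃* Spor.Fi22)) ∨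
  -- S1736
  (∃ (E : Type) (_ : Field E) (_ : Fintype E), Fintype.card E = 4 ∧ Nat.card ↥(center ↥K) = 2 ∧
    Nonempty (↥K ⧸ center ↥K ≃* ↥(Lie.twistedE6 E 2))) ∨
  (∃ (F : Type) (_ : Field F) (_ : Fintype F), Fintype.card F = 2 ∧
    Nonempty (↥K ≃* ↥(Lie.chevF4.group F))) ∨
  -- S1737
  (Nat.card ↥(center ↥K) = 2 ∧ Nonempty (↥K ⧸ center ↥K ≃* Spor.BabyMonster)) ∨
  -- S1747
  (∃ (F : Type) (_ : Field F) (_ : Fintype F), Fintype.card F = 4 ∧ IsKleinFour ↥(center ↥K) ∧
    Nonempty (↥K ⧸ center ↥K ≃* Matrix.ProjectiveSpecialLinearGroup (Fin 3) F)) ∨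
  -- S1748
  (∃ (F : Type) (_ : Field F) (_ : Fintype F), Fintype.card F = 4 ∧
    Nonempty (↥K ≃* Matrix.ProjectiveSpecialLinearGroup (Fin 3) F)) ∨
  -- S1749
  (∃ (F : Type) (_ : Field F) (_ : Fintype F), Fintype.card F = 4 ∧ IsCyclic ↥(center ↥K) ∧
    Nat.card ↥(center ↥K) = 4 ∧
    Nonempty (↥K ⧸ center ↥K ≃* Matrix.ProjectiveSpecialLinearGroup (Fin 3) F)) ∨
  -- S1750
  Nonempty (↥K ≃* ↥Spor.M12) ∨
  -- S1751
  (∃ (F : Type) (_ : Field F) (_ : Fintype F), Fintype.card F = 4 ∧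
    Nonempty (↥K ≃* ↥(Lie.chevG2.group F))) ∨
  -- S1752
  (Nat.card ↥(center ↥K) = 2 ∧ Nonempty (↥K ⧸ center ↥K ≃* ↥Spor.HS)) ∨
  -- S1739
  Spor.IsoMcL ↥K ∨ Spor.IsoLy ↥K

/-- The quotients in S1771, S1772, S1773, S1778 (Lie rank at most 2 in characteristic 2). -/
def SmallRank (X : Type u) [Group X] : Prop :=
  -- S1773
  (∃ (F : Type) (_ : Field F) (_ : Fintype F) (a : ℕ), 2 ≤ a ∧ Fintype.card F = 2 ^ a ∧
    Nonempty (X ≃* Matrix.ProjectiveSpecialLinearGroup (Fin 2) F)) ∨
  -- S1771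
  (∃ (F : Type) (_ : Field F) (_ : Fintype F) (a : ℕ), 2 ≤ a ∧ Fintype.card F = 4 ^ a ∧
    Nonempty (X ≃* PSU 3 F (2 ^ a))) ∨
  -- S1772
  (∃ (F : Type) (_ : Field F) (_ : Fintype F) (m : ℕ), 1 ≤ m ∧ Fintype.card F = 2 ^ (2 * m + 1) ∧
    Nonempty (X ≃* ↥(Lie.Sz F (2 ^ (m + 1))))) ∨
  -- S1778
  (∃ (F : Type) (_ : Field F) (_ : Fintype F) (a : ℕ), 2 ≤ a ∧ Fintype.card F = 2 ^ a ∧
    (Nonempty (X ≃* Matrix.ProjectiveSpecialLinearGroup (Fin 3) F) ∨ Nonempty (X ≃* PSp 2 F) ∨
      Nonempty (X ≃* ↥(Lie.chevG2.group F)))) ∨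
  (∃ (F : Type) (_ : Field F) (_ : Fintype F) (a : ℕ), 2 ≤ a ∧ Fintype.card F = 4 ^ a ∧
    (Nonempty (X ≃* PSU 4 F (2 ^ a)) ∨ Nonempty (X ≃* PSU 5 F (2 ^ a)))) ∨
  (∃ (F : Type) (_ : Field F) (_ : Fintype F), Fintype.card F = 4 ∧ Nonempty (X ≃* PSU 5 F 2)) ∨
  (∃ (K : Type) (_ : Field K) (_ : Fintype K) (a : ℕ), 1 ≤ a ∧ Fintype.card K = 8 ^ a ∧
    Nonempty (X ≃* ↥(Lie.twistedD4 K (2 ^ a))))

/-- The Sylow 2-subgroups of `C(K)` are cyclic. -/
def Cyc {G : Type u} [Group G] (K : Subgroup G) : Prop :=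
  ∀ R : Sylow 2 ↥(centralizer (K : Set G)), IsCyclic ↥(R : Subgroup ↥(centralizer (K : Set G)))

/-! ### The nodes -/

/-- **Q**: if `m_2(C(K)) ≤ 1`, then the Sylow 2-subgroups of `C(K)` are cyclic (they are not quaternion). No maximality. -/
def NodeQ : Prop :=
  ∀ (G : Type u) [Group G], Ctx G → ∀ K : Subgroup G, Std0 G K → PRankLE 2 1 ↥(centralizer (K : Set G)) → Cyc K

/-- **D3(a)**: a terminal component of maximal order exists. -/
def D3a : Prop :=
  ∀ (G : Type u) [Group G], Finite G → (∀ t : G, orderOf t = 2 → centralizerPPrimeCore 2 t = ⊥) →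
    (∃ (t : G) (L : Subgroup G), orderOf t = 2 ∧ CompOf t L) → ∃ K : Subgroup G, Term G K

/-- **D3(b)**: a terminal component of maximal order and of 2-rank at least 2 commutes with no other conjugate. -/
def D3b : Prop :=
  ∀ (G : Type u) [Group G], Ctx G → ∀ K : Subgroup G, Term G K → ¬ PRankLE 2 1 ↥K →
    ∀ g : G, K.map (MulAut.conj g).toMonoidHom ≠ K → ⁅K, K.map (MulAut.conj g).toMonoidHom⁆ ≠ ⊥

/-- **D1'**: no terminal component has 2-rank 1 (S1307 + identification of the quasisimple K-groups with quaternion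
Sylow 2-subgroups + `Ctx.classical`). -/
def D1rank1 : Prop :=
  ∀ (G : Type u) [Group G], Ctx G → ∀ K : Subgroup G, Term G K → ¬ PRankLE 2 1 ↥K

/-- **D4**: `m_2(C(K)) ≤ 1`, unless `K` is listed, alternating, or intrinsic of Lie type in odd characteristic. -/
def D4 : Prop :=
  ∀ (G : Type u) [Group G], Ctx G → ∀ K : Subgroup G, Std G K → ¬ PRankLE 2 1 ↥(centralizer (K : Set G)) →
    ¬ IsAlternating (↥K ⧸ center ↥K) → (LieOdd (↥K ⧸ center ↥K) → center ↥K = ⊥) → ¬ Listed K → False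

/-- **D5(n)**: `K ≅ A_n`, `C(K)` with cyclic Sylow 2-subgroups. -/
def D5 (P : ℕ → Prop) : Prop :=
  ∀ (G : Type u) [Group G], Ctx G → ∀ K : Subgroup G, Std G K → Cyc K → ∀ n : ℕ, P n →
    Nonempty (↥K ≃* ↥(alternatingGroup (Fin n))) → False

/-- **Intr2**: no standard subgroup `M` of even centre such that `C(M)` has cyclic Sylow 2-subgroups. It follows from
the listed statements, `D9`, `U2` and `D5cover` (`Main.intr2`); the nodes `D3b`, `D4`, `D5`, `D6`, `D7`, `D8` may use
it. -/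
def Intr2 : Prop :=
  ∀ (G : Type u) [Group G], Ctx G → ∀ M : Subgroup G, IsStandardSubgroup M → Cyc M →
    (∃ z : G, orderOf z = 2 ∧ z ∈ M ∧ z ∈ centralizer (M : Set G)) → False

/-- **Intr**: no standard subgroup `M` with `C(M) = ⟨z⟩ ≤ M` (a special case of `Intr2`). -/
def Intr : Prop :=
  ∀ (G : Type u) [Group G], Ctx G → ∀ (M : Subgroup G) (z : G), orderOf z = 2 → IsStandardSubgroup M → z ∈ M →
    centralizer (M : Set G) = zpowers z → False

/-- **D5(cover)**: a quasisimple group with centre a nontrivial 2-group and alternating quotient `A_n`, of 2-rank at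
least 2, is a non-split double cover with `n ≥ 8`. -/
def D5cover : Prop :=
  ∀ (K : Type u) [Group K], Finite K → IsQuasisimple K → IsPGroup 2 ↥(center K) → center K ≠ ⊥ →
    ¬ PRankLE 2 1 K → ∀ n : ℕ, 5 ≤ n → Nonempty (K ⧸ center K ≃* ↥(alternatingGroup (Fin n))) →
    8 ≤ n ∧ IsNonsplitDoubleCover K ↥(alternatingGroup (Fin n))

/-- **U2**: `K` of Lie type in odd characteristic with nontrivial centre (intrinsic component). No maximality. -/
def U2 : Prop :=
  ∀ (G : Type u) [Group G], Ctx G → ∀ K : Subgroup G, Std0 G K → LieOdd (↥K ⧸ center ↥K) →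
    center ↥K ≠ ⊥ → ¬ IsAlternating (↥K ⧸ center ↥K) → False

/-- **D6**: `K` simple of Lie type in odd characteristic, `C(K)` with cyclic Sylow 2-subgroups. -/
def D6 : Prop :=
  ∀ (G : Type u) [Group G], Ctx G → ∀ K : Subgroup G, Std G K → Cyc K → LieOdd ↥K →
    ¬ IsAlternating ↥K → False

/-- **D7**: `K` simple of Lie type in characteristic 2, not in S1771 - S1773, S1778, `C(K)` with cyclic Sylow
2-subgroups. -/
def D7 : Prop :=
  ∀ (G : Type u) [Group G], Ctx G → ∀ K : Subgroup G, Std G K → Cyc K → LieTwo ↥K →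
    ¬ SmallRank ↥K → ¬ Listed K → False

/-- **D8**: `K` sporadic, `C(K)` with cyclic Sylow 2-subgroups. -/
def D8 : Prop :=
  ∀ (G : Type u) [Group G], Ctx G → ∀ K : Subgroup G, Std G K → Cyc K → IsSporadicGroup ↥K →
    ¬ Listed K → False

/-- **D9**: `K` with nontrivial centre (a 2-group), even Lie type or sporadic quotient, `C(K)` with cyclic Sylow
2-subgroups. No maximality. -/
def D9 : Prop :=
  ∀ (G : Type u) [Group G], Ctx G → ∀ K : Subgroup G, Std0 G K → Cyc K → center ↥K ≠ ⊥ →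
    LieTwo (↥K ⧸ center ↥K) ∨ IsSporadicGroup (↥K ⧸ center ↥K) → ¬ Listed K →
    ¬ (∃ (F : Type) (_ : Field F) (_ : Fintype F) (m : ℕ), 1 ≤ m ∧ Fintype.card F = 2 ^ (2 * m + 1) ∧
      Nonempty (↥K ⧸ center ↥K ≃* ↥(Lie.Sz F (2 ^ (m + 1))))) → False

end Cfsg.Agent.OddHalf.Iface
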