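import Cfsg.Agent.StdL3.OneParity
set_option linter.all false

/-!
# The T-formula (helper350's form; Lean by helper915)

`t` an involution of the finite group `G`, `T` a 2-subgroup of `C(t)`, `φ : H →* A`, `A` abelian.
The transfer of `φ` at `t` is the product over the cosets fixed by `t` **and by `T`**.

`eq_of_unique`: `H = C_G(z)`, and `z` is its only conjugate centralised by `T`: transfer `= φ t`.
`mem_commutator`: if moreover `G` is perfect, `t` lies in the commutator subgroup of `C_G(z)`.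
-/

set_option autoImplicit false

namespace Cfsg.Agent.OddHalf.TFormula

open MulAction Subgroup

theorem pow_eq_of_modEq {A : Type*} [Group A] {a : A} (ha : a * a = 1) {m n : ℕ}
    (h : m ≡ n [MOD 2]) : a ^ m = a ^ n := by
  have ha2 : a ^ 2 = 1 := by rw [pow_two, ha]
  rw [← Nat.div_add_mod m 2, ← Nat.div_add_mod n 2, pow_add, pow_add, pow_mul, pow_mul, ha2,
    one_pow, one_pow, h]

/-- the T-formula -/
theorem transfer_eq_prod {G A : Type*} [Group G] [CommGroup A] [Finite G] (H : Subgroup G)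
    [Fintype (G ⧸ H)] [DecidableEq (G ⧸ H)] (φ : H →* A) (t : G) (ht : t * t = 1)
    (T : Subgroup G) (hT : IsPGroup 2 T) (hTt : ∀ x ∈ T, x * t = t * x) :
    ∃ f : G ⧸ H → A, (∀ q : G ⧸ H, ∀ g : G, (g : G ⧸ H) = q → ∀ hg : g⁻¹ * t * g ∈ H,
        f q = φ ⟨g⁻¹ * t * g, hg⟩) ∧
      ∃ s : Finset (G ⧸ H), (∀ q, q ∈ s ↔ t • q = q ∧ ∀ x ∈ T, x • q = q) ∧
        MonoidHom.transfer φ t = ∏ q ∈ s, f q := by
  classical
  obtain ⟨f, hf, hprod⟩ := StdL3.OneParity.transfer_eq_prod_fixed H φ t ht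
  have hmem : ∀ g : G, t • (g : G ⧸ H) = g → g⁻¹ * t * g ∈ H := by
    intro g hq
    rw [MulAction.Quotient.smul_mk, smul_eq_mul, QuotientGroup.eq] at hq
    have e : (t * g)⁻¹ * g = (g⁻¹ * t * g)⁻¹ * (g⁻¹ * (t * g)) * ((t * g)⁻¹ * g) := by group
    have h2 := H.inv_mem hq
    have e2 : ((t * g)⁻¹ * g)⁻¹ = g⁻¹ * t * g := by group
    rw [e2] at h2; exact h2
  have hsq : ∀ q : G ⧸ H, t • q = q → f q * f q = 1 := by
    intro q hq
    obtain ⟨g, rfl⟩ := QuotientGroup.mk_surjective q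
    rw [hf _ g rfl (hmem g hq), ← map_mul]
    have : (⟨g⁻¹ * t * g, hmem g hq⟩ : H) * ⟨g⁻¹ * t * g, hmem g hq⟩ = 1 := by
      apply Subtype.ext
      show g⁻¹ * t * g * (g⁻¹ * t * g) = 1
      calc g⁻¹ * t * g * (g⁻¹ * t * g) = g⁻¹ * (t * t) * g := by group
        _ = 1 := by rw [ht]; group
    rw [this, map_one]
  have hfix : ∀ x ∈ T, ∀ q : G ⧸ H, t • q = q → t • (x • q) = x • q := by
    intro x hx q hq
    rw [← mul_smul, ← hTt x hx, mul_smul, hq]
  have hinv : ∀ x ∈ T, ∀ q : G ⧸ H, t • q = q → f (x • q) = f q := by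
    intro x hx q hq
    obtain ⟨g, rfl⟩ := QuotientGroup.mk_surjective q
    have h1 := hmem g hq
    have e : (x * g)⁻¹ * t * (x * g) = g⁻¹ * t * g := by
      calc (x * g)⁻¹ * t * (x * g) = g⁻¹ * x⁻¹ * (t * x) * g := by group
        _ = g⁻¹ * x⁻¹ * (x * t) * g := by rw [hTt x hx]
        _ = g⁻¹ * t * g := by group
    have h2 : (x * g)⁻¹ * t * (x * g) ∈ H := by rw [e]; exact h1
    rw [hf _ g rfl h1, hf (x • (g : G ⧸ H)) (x * g) rfl h2]
    congr 1
    exact Subtype.ext e
  refine ⟨f, hf, Finset.univ.filter (fun q : G ⧸ H => t • q = q ∧ ∀ x ∈ T, x • q = q),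
    fun q => by simp, ?_⟩
  rw [hprod]
  set s := Finset.univ.filter (fun q : G ⧸ H => t • q = q) with hs
  set s' := Finset.univ.filter (fun q : G ⧸ H => t • q = q ∧ ∀ x ∈ T, x • q = q) with hs'
  have hsub : ∀ q ∈ s', f q ∈ s.image f := by
    intro q hq
    apply Finset.mem_image_of_mem
    rw [hs', Finset.mem_filter] at hq
    rw [hs, Finset.mem_filter]
    exact ⟨hq.1, hq.2.1⟩
  rw [← Finset.prod_fiberwise_of_maps_to (s := s) (t := s.image f) (g := f)
    (fun q hq => Finset.mem_image_of_mem f hq) f,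
    ← Finset.prod_fiberwise_of_maps_to (s := s') (t := s.image f) (g := f) hsub f]
  apply Finset.prod_congr rfl
  intro a ha
  rw [Finset.prod_congr rfl (fun q hq => (Finset.mem_filter.1 hq).2),
    Finset.prod_congr (s₁ := s'.filter (fun q => f q = a)) rfl
      (fun q hq => (Finset.mem_filter.1 hq).2),
    Finset.prod_const, Finset.prod_const]
  have ha2 : a * a = 1 := by
    rw [Finset.mem_image] at ha
    obtain ⟨q, hq, rfl⟩ := ha
    rw [hs, Finset.mem_filter] at hq
    exact hsq q hq.2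
  apply pow_eq_of_modEq ha2
  -- the action of `T` on the fibre
  let Y := {q : G ⧸ H // t • q = q ∧ f q = a}
  let _ : MulAction T Y :=
    { smul := fun x q => ⟨(x : G) • q.1, hfix x x.2 q.1 q.2.1, by
        rw [hinv x x.2 q.1 q.2.1]; exact q.2.2⟩
      one_smul := fun q => Subtype.ext (one_smul G q.1)
      mul_smul := fun x y q => Subtype.ext (mul_smul (x : G) (y : G) q.1) }
  have hcard := hT.card_modEq_card_fixedPoints Y
  have h1 : Nat.card Y = (s.filter (fun q => f q = a)).card := by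
    rw [Nat.subtype_card]
    intro q
    rw [Finset.mem_filter, hs, Finset.mem_filter]
    simp
  have h2 : Nat.card (fixedPoints T Y) = (s'.filter (fun q => f q = a)).card := by
    have e : fixedPoints T Y ≃ {q : G ⧸ H // (t • q = q ∧ ∀ x ∈ T, x • q = q) ∧ f q = a} :=
      { toFun := fun q => ⟨q.1.1, ⟨q.1.2.1, fun x hx => congrArg Subtype.val (q.2 ⟨x, hx⟩)⟩,
          q.1.2.2⟩
        invFun := fun q => ⟨⟨q.1, q.2.1.1, q.2.2⟩, fun x => Subtype.ext (q.2.1.2 x x.2)⟩
        left_inv := fun q => rfl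
        right_inv := fun q => rfl }
    rw [Nat.card_congr e, Nat.subtype_card]
    intro q
    rw [Finset.mem_filter, hs', Finset.mem_filter]
    simp
  rw [← h1, ← h2]
  exact hcard

/-- `H = C_G(z)`: if `z` is the only conjugate of `z` centralised by `T`, the transfer of `φ` at `t`
is `φ t`. -/
theorem eq_of_unique {G A : Type*} [Group G] [CommGroup A] [Finite G] {t z : G} (ht : t * t = 1)
    (T : Subgroup G) (hT : IsPGroup 2 T) (hTt : ∀ x ∈ T, x * t = t * x)
    (hTz : ∀ x ∈ T, x * z = z * x) (htz : t * z = z * t)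
    (hu : ∀ g : G, (∀ x ∈ T, x * (g * z * g⁻¹) = g * z * g⁻¹ * x) → g * z * g⁻¹ = z)
    (φ : centralizer ({z} : Set G) →* A) :
    MonoidHom.transfer φ t = φ ⟨t, mem_centralizer_singleton_iff.2 htz⟩ := by
  classical
  have := Fintype.ofFinite (G ⧸ centralizer ({z} : Set G))
  obtain ⟨f, hf, s, hs, hprod⟩ := transfer_eq_prod (centralizer ({z} : Set G)) φ t ht T hT hTt
  have hsm : ∀ x g : G, x • (g : G ⧸ centralizer ({z} : Set G)) = g ↔
      x * (g * z * g⁻¹) = g * z * g⁻¹ * x := by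
    intro x g
    rw [MulAction.Quotient.smul_mk, smul_eq_mul, QuotientGroup.eq, mem_centralizer_singleton_iff]
    constructor
    · intro h
      calc x * (g * z * g⁻¹) = x * g * (z * ((x * g)⁻¹ * g)) * ((x * g)⁻¹ * g)⁻¹ * g⁻¹ := by group
        _ = x * g * ((x * g)⁻¹ * g * z) * ((x * g)⁻¹ * g)⁻¹ * g⁻¹ := by rw [h]
        _ = g * z * g⁻¹ * x := by group
    · intro h
      calc (x * g)⁻¹ * g * z = (x * g)⁻¹ * (g * z * g⁻¹ * x) * (x⁻¹ * g) := by group
        _ = (x * g)⁻¹ * (x * (g * z * g⁻¹)) * (x⁻¹ * g) := by rw [h]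
        _ = z * ((x * g)⁻¹ * g) := by group
  have hs1 : s = {((1 : G) : G ⧸ centralizer ({z} : Set G))} := by
    ext q
    rw [hs, Finset.mem_singleton]
    obtain ⟨g, rfl⟩ := QuotientGroup.mk_surjective q
    constructor
    · rintro ⟨-, h⟩
      have h1 := hu g fun x hx => (hsm x g).1 (h x hx)
      rw [eq_comm, QuotientGroup.eq, mem_centralizer_singleton_iff, inv_one, one_mul]
      rwa [mul_inv_eq_iff_eq_mul] at h1
    · intro h
      rw [h]
      refine ⟨(hsm t 1).2 (by rw [one_mul, inv_one, mul_one]; exact htz), fun x hx =>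
        (hsm x 1).2 (by rw [one_mul, inv_one, mul_one]; exact hTz x hx)⟩
  rw [hprod, hs1, Finset.prod_singleton,
    hf _ 1 rfl (mem_centralizer_singleton_iff.2 (by rw [inv_one, one_mul, mul_one]; exact htz))]
  congr 1
  apply Subtype.ext
  show (1 : G)⁻¹ * t * 1 = t
  rw [inv_one, one_mul, mul_one]

/-- homomorphisms of a perfect group to abelian groups are trivial -/
theorem hom_eq_one {G A : Type*} [Group G] [CommGroup A] (hG : commutator G = ⊤) (f : G →* A)
    (u : G) : f u = 1 := by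
  have h1 : commutator G ≤ f.ker := Abelianization.commutator_subset_ker f
  rw [hG] at h1
  exact h1 (mem_top u)

/-- **T-formula for perfect `G`** -/
theorem phi_eq_one {G A : Type*} [Group G] [CommGroup A] [Finite G] (hG : commutator G = ⊤)
    {t z : G} (ht : t * t = 1)
    (T : Subgroup G) (hT : IsPGroup 2 T) (hTt : ∀ x ∈ T, x * t = t * x)
    (hTz : ∀ x ∈ T, x * z = z * x) (htz : t * z = z * t)
    (hu : ∀ g : G, (∀ x ∈ T, x * (g * z * g⁻¹) = g * z * g⁻¹ * x) → g * z * g⁻¹ = z)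
    (φ : centralizer ({z} : Set G) →* A) :
    φ ⟨t, mem_centralizer_singleton_iff.2 htz⟩ = 1 := by
  rw [← eq_of_unique ht T hT hTt hTz htz hu φ]
  exact hom_eq_one hG _ t

theorem mem_commutator {G : Type*} [Group G] [Finite G] (hG : commutator G = ⊤)
    {t z : G} (ht : t * t = 1)
    (T : Subgroup G) (hT : IsPGroup 2 T) (hTt : ∀ x ∈ T, x * t = t * x)
    (hTz : ∀ x ∈ T, x * z = z * x) (htz : t * z = z * t)
    (hu : ∀ g : G, (∀ x ∈ T, x * (g * z * g⁻¹) = g * z * g⁻¹ * x) → g * z * g⁻¹ = z) :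
    (⟨t, mem_centralizer_singleton_iff.2 htz⟩ : centralizer ({z} : Set G)) ∈
      commutator (centralizer ({z} : Set G)) := by
  have h := phi_eq_one hG ht T hT hTt hTz htz hu
    (Abelianization.of (G := centralizer ({z} : Set G)))
  rwa [← MonoidHom.mem_ker, Abelianization.ker_of] at h

end Cfsg.Agent.OddHalf.TFormula
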