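import Cfsg.Agent.OddHalf.TR
import Cfsg.Agent.OddHalf.TFormula
set_option linter.all false

/-!
# ODD half, D8: the clean case (helper915)

`Frame.main'`: as `Frame.main`, for a perfect group `G` and `t ∉ T'` (no values in `{±1}` needed);
conclusion: `t` lies in the commutator subgroup of `C_G(z)`.

`Clean t z Q K SK P₀`: `C_G(t) ≥ Q × K` of odd index, `Q ∋ t` a cyclic 2-group, `SK` Sylow in `K` with
`Z(SK) = ⟨z⟩`, `P₀` the last term of the derived series of `C_K(z)`, `z ∈ P₀`. Then `Q = ⟨t⟩` and `t` lies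
in the commutator subgroup of `C_G(z)`.
-/

set_option autoImplicit false

namespace Cfsg.Agent.OddHalf.TR

open Subgroup

variable {G : Type*} [Group G]

namespace Frame

variable {t z : G} {T : Subgroup G}

/-- general form of Step 1 -/
theorem not_sylow' [Finite G] (F : Frame t z T) (hG : commutator G = ⊤)
    (hmu : (⟨t, F.tT⟩ : T) ∉ commutator T) (S : Sylow 2 G) : (S : Subgroup G) ≠ T := by
  classical
  intro hST
  have hmem : ∀ y, y ∈ S → y ∈ T := by
    intro y hy
    have : y ∈ (S : Subgroup G) := hy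
    rwa [hST] at this
  -- an element normalising `T` fixes `t`
  have key : ∀ g ∈ normalizer (T : Set G), g * t * g⁻¹ = t := by
    intro g hgN
    obtain ⟨hz, h1 | h1⟩ := F.act hgN
    · exact h1
    exfalso
    obtain ⟨k, m, hm, hk⟩ := Nat.exists_eq_two_pow_mul_odd (orderOf_pos g).ne'
    set x := g ^ m with hx
    have hxp : IsPGroup 2 (zpowers x) := by
      apply IsPGroup.of_card (n := k)
      rw [Nat.card_zpowers, hx, orderOf_pow, hk, Nat.gcd_mul_left_left,
        Nat.mul_div_cancel _ hm.pos]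
    have hxN : x ∈ normalizer (T : Set G) := pow_mem hgN m
    have hxT : x ∈ T := by
      apply hmem
      have h2 : IsPGroup 2 ((zpowers x ⊔ T : Subgroup G)) :=
        hxp.to_sup_of_normal_right' F.pT (by rw [zpowers_le]; exact hxN)
      have h3 := S.is_maximal' h2 (by rw [hST]; exact le_sup_right)
      show x ∈ (S : Subgroup G)
      rw [← h3]
      exact (le_sup_left : zpowers x ≤ _) (mem_zpowers x)
    have hxt := F.tc x hxT
    have hg2t : Commute (g * g) t := by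
      show g * g * t = t * (g * g)
      rw [← mul_inv_eq_iff_eq_mul]
      calc g * g * t * (g * g)⁻¹ = g * (g * t * g⁻¹) * g⁻¹ := by group
        _ = g * (t * z) * g⁻¹ := by rw [h1]
        _ = (g * t * g⁻¹) * (g * z * g⁻¹) := by group
        _ = t := by rw [h1, hz, mul_assoc, F.zz, mul_one]
    obtain ⟨j, hj⟩ := hm
    have hx' : x = (g * g) ^ j * g := by
      rw [hx, hj, pow_succ, pow_mul, pow_two]
    have h4 : Commute ((g * g) ^ j) t := hg2t.pow_left j
    have h5 : Commute ((g * g) ^ j * g) t := by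
      rw [← hx']; exact hxt
    have h6 : Commute g t := by
      have := h4.inv_left.mul_left h5
      rwa [inv_mul_cancel_left] at this
    have h7 : g * t * g⁻¹ = t := by rw [h6.eq]; group
    rw [h7] at h1
    exact F.z1 (mul_eq_left.1 h1.symm)
  have := Fintype.ofFinite (G ⧸ T)
  obtain ⟨f, hf, s, hs, hprod⟩ := TFormula.transfer_eq_prod T
    (Abelianization.of (G := T)) t F.tt T F.pT F.tc
  have hfix : ∀ g : G, (∀ x ∈ T, x • (g : G ⧸ T) = g) → g⁻¹ ∈ normalizer (T : Set G) := by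
    intro g h
    apply mem_normalizer_fintype
    intro n hn
    have h1 := h n⁻¹ (T.inv_mem hn)
    rw [MulAction.Quotient.smul_mk, smul_eq_mul, QuotientGroup.eq] at h1
    have e : (n⁻¹ * g)⁻¹ * g = g⁻¹ * n * g := by group
    rw [e] at h1
    show g⁻¹ * n * g⁻¹⁻¹ ∈ T
    rw [inv_inv]; exact h1
  have hval : ∀ q ∈ s, f q = Abelianization.of (⟨t, F.tT⟩ : T) := by
    intro q hq
    obtain ⟨g, rfl⟩ := QuotientGroup.mk_surjective q
    have h1 := key _ (hfix g ((hs _).1 hq).2)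
    rw [inv_inv] at h1
    rw [hf _ g rfl (by rw [h1]; exact F.tT)]
    congr 1
    exact Subtype.ext h1
  have hodd : s.card ≡ 1 [MOD 2] := by
    have h1 := F.pT.card_modEq_card_fixedPoints (G ⧸ T)
    have h2 : Nat.card (MulAction.fixedPoints T (G ⧸ T)) = s.card := by
      have : Nat.card (MulAction.fixedPoints T (G ⧸ T)) =
          Nat.card {q : G ⧸ T // q ∈ s} := by
        apply Nat.card_congr
        apply Equiv.subtypeEquivRight
        intro q
        rw [hs, MulAction.mem_fixedPoints]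
        constructor
        · intro h
          exact ⟨h ⟨t, F.tT⟩, fun x hx => h ⟨x, hx⟩⟩
        · intro h x
          exact h.2 x x.2
      rw [this, Nat.subtype_card (s := s) (by intro q; rfl)]
    have h3 : ¬ 2 ∣ T.index := by
      rw [← hST]
      exact S.not_dvd_index
    rw [← h2]
    apply h1.symm.trans
    show T.index % 2 = 1 % 2
    omega
  have hsq : (Abelianization.of (⟨t, F.tT⟩ : T)) * (Abelianization.of (⟨t, F.tT⟩ : T)) = 1 := by
    rw [← map_mul]
    have : (⟨t, F.tT⟩ : T) * ⟨t, F.tT⟩ = 1 := Subtype.ext F.tt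
    rw [this, map_one]
  rw [Finset.prod_congr rfl hval, Finset.prod_const, TFormula.pow_eq_of_modEq hsq hodd, pow_one,
    TFormula.hom_eq_one hG] at hprod
  apply hmu
  rw [← Abelianization.ker_of, MonoidHom.mem_ker]
  exact hprod.symm

/-- involutions conjugate to `z` centralised by `T` -/
theorem unique_of_not_conj [Finite G] (F : Frame t z T) (h1 : ∀ g, g * t * g⁻¹ ≠ z)
    (h2 : ∀ g, g * (t * z) * g⁻¹ ≠ z) (g : G)
    (hg : ∀ x ∈ T, x * (g * z * g⁻¹) = g * z * g⁻¹ * x) : g * z * g⁻¹ = z := by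
  have hsq : g * z * g⁻¹ * (g * z * g⁻¹) = 1 := by
    calc g * z * g⁻¹ * (g * z * g⁻¹) = g * (z * z) * g⁻¹ := by group
      _ = 1 := by rw [F.zz]; group
  have hN : g * z * g⁻¹ ∈ normalizer (T : Set G) := by
    rw [mem_normalizer_iff]
    intro y
    constructor
    · intro hy
      have : g * z * g⁻¹ * y * (g * z * g⁻¹)⁻¹ = y := by rw [← hg y hy]; group
      rw [this]; exact hy
    · intro hy
      have h3 := hg _ hy
      have h4 : y = g * z * g⁻¹ * y * (g * z * g⁻¹)⁻¹ := by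
        have h5 : (g * z * g⁻¹) * y = (g * z * g⁻¹) * (g * z * g⁻¹ * y * (g * z * g⁻¹)⁻¹) := by
          rw [← h3]; group
        exact mul_left_cancel h5
      rw [h4]; exact hy
  have hT : g * z * g⁻¹ ∈ T :=
    F.mem_of_normalizer hN (isPGroup_zpowers hsq) (hg t F.tT).symm
  have back : ∀ y : G, g * z * g⁻¹ = y → g⁻¹ * y * g⁻¹⁻¹ = z := by
    intro y hy
    rw [← hy]; group
  rcases F.om _ hT hg hsq with h | h | h | h
  · exact absurd h (conj_ne_one F.z1)
  · exact absurd (back _ h) (h1 _)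
  · exact h
  · exact absurd (back _ h) (h2 _)

/-- the main statement, for perfect groups -/
theorem main' [Finite G] (F : Frame t z T) (hG : commutator G = ⊤)
    (hmu : (⟨t, F.tT⟩ : T) ∉ commutator T) :
    ∃ S : Sylow 2 G, T < (S : Subgroup G) ∧ (∀ s ∈ (S : Subgroup G), s * z = z * s) ∧
      (∃ x ∈ (S : Subgroup G), x ∈ normalizer (T : Set G) ∧ x ∉ T ∧ x * t * x⁻¹ = t * z ∧
        x * z * x⁻¹ = z) ∧
      (∀ g, g * t * g⁻¹ ≠ z) ∧
      (⟨t, mem_centralizer_singleton_iff.2 F.comm⟩ : centralizer ({z} : Set G)) ∈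
        commutator (centralizer ({z} : Set G)) := by
  obtain ⟨S, hS⟩ := F.pT.exists_le_sylow
  have hlt : T < (S : Subgroup G) := lt_of_le_of_ne hS fun h => F.not_sylow' hG hmu S h.symm
  obtain ⟨x, hxS, hxN, hxT, hxt, hxz⟩ := F.exists_swap S hlt
  have hnc := F.not_conj S hlt
  have hnc2 : ∀ g, g * (t * z) * g⁻¹ ≠ z := by
    intro g hg
    apply hnc (g * x)
    calc g * x * t * (g * x)⁻¹ = g * (x * t * x⁻¹) * g⁻¹ := by group
      _ = z := by rw [hxt]; exact hg
  exact ⟨S, hlt, F.z_central S hlt, ⟨x, hxS, hxN, hxT, hxt, hxz⟩, hnc,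
    TFormula.mem_commutator hG F.tt T F.pT F.tc F.zc F.comm
      (fun g hg => F.unique_of_not_conj hnc hnc2 g hg)⟩

end Frame

/-- the derived series of a subgroup, as subgroups of `G` -/
def dser (n : ℕ) (H : Subgroup G) : Subgroup G := (fun L : Subgroup G => ⁅L, L⁆)^[n] H

theorem dser_zero (H : Subgroup G) : dser 0 H = H := rfl

theorem dser_succ (n : ℕ) (H : Subgroup G) : dser (n + 1) H = dser n ⁅H, H⁆ := rfl

theorem dser_succ' (n : ℕ) (H : Subgroup G) : dser (n + 1) H = ⁅dser n H, dser n H⁆ :=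
  Function.iterate_succ_apply' _ n H

theorem dser_add (m n : ℕ) (H : Subgroup G) : dser (m + n) H = dser m (dser n H) :=
  Function.iterate_add_apply _ m n H

theorem dser_le (n : ℕ) (H : Subgroup G) : dser n H ≤ H := by
  induction n with
  | zero => exact le_rfl
  | succ n ih =>
    rw [dser_succ']
    exact (commutator_le_self _).trans ih

theorem dser_mono (n : ℕ) {H L : Subgroup G} (h : H ≤ L) : dser n H ≤ dser n L := by
  induction n with
  | zero => exact h
  | succ n ih =>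
    rw [dser_succ', dser_succ']
    exact commutator_mono ih ih

theorem dser_of_perfect (n : ℕ) {H : Subgroup G} (h : ⁅H, H⁆ = H) : dser n H = H := by
  induction n with
  | zero => rfl
  | succ n ih => rw [dser_succ, h, ih]

theorem dser_map (n : ℕ) (H : Subgroup G) (f : G →* G) : dser n (H.map f) = (dser n H).map f := by
  induction n with
  | zero => rfl
  | succ n ih => rw [dser_succ', dser_succ', ih, map_commutator]

/-- the clean case: `Q × K` has odd index in `C_G(t)` -/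
structure Clean (t z : G) (Q K SK P₀ : Subgroup G) : Prop where
  tt : t * t = 1
  t1 : t ≠ 1
  tQ : t ∈ Q
  pQ : IsPGroup 2 Q
  cyc : IsCyclic Q
  cen : ∀ q ∈ Q, ∀ k ∈ K, q * k = k * q
  inf : ∀ x ∈ Q, x ∈ K → x = 1
  odd : ¬ 2 ∣ (Q ⊔ K).relIndex (centralizer ({t} : Set G))
  pS : IsPGroup 2 SK
  SK_le : SK ≤ K
  oddS : ¬ 2 ∣ SK.relIndex K
  zz : z * z = 1
  z1 : z ≠ 1
  zS : z ∈ SK
  zc : ∀ x ∈ SK, x * z = z * x
  cS : ∀ y ∈ SK, (∀ x ∈ SK, x * y = y * x) → y = 1 ∨ y = z
  /-- `C_G(t)/QK` is solvable -/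
  sol : ∃ n, dser n (centralizer ({t} : Set G)) ≤ K
  zP : z ∈ P₀
  perf : ⁅P₀, P₀⁆ = P₀
  P_le : P₀ ≤ K ⊓ centralizer ({z} : Set G)
  P_der : ∃ m, dser m (K ⊓ centralizer ({z} : Set G)) ≤ P₀

namespace Clean

variable {t z : G} {Q K SK P₀ : Subgroup G}

theorem tK (h : Clean t z Q K SK P₀) : t ∉ K := fun h1 => h.t1 (h.inf t h.tQ h1)

theorem zK (h : Clean t z Q K SK P₀) : z ∈ K := h.SK_le h.zS

theorem qq (h : Clean t z Q K SK P₀) : ∀ a ∈ Q, ∀ b ∈ Q, a * b = b * a := by
  intro a ha b hb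
  have := h.cyc
  have h1 : (⟨a, ha⟩ : Q) * ⟨b, hb⟩ = ⟨b, hb⟩ * ⟨a, ha⟩ := by
    let _ := IsCyclic.commGroup (α := Q)
    exact mul_comm _ _
  exact congrArg Subtype.val h1

end Clean

/-- the product of two commuting subgroups -/
theorem mem_sup_of_comm {A B : Subgroup G} (h : ∀ a ∈ A, ∀ b ∈ B, a * b = b * a) {x : G} :
    x ∈ A ⊔ B ↔ ∃ a ∈ A, ∃ b ∈ B, a * b = x := by
  constructor
  · intro hx
    let L : Subgroup G :=
      { carrier := {y | ∃ a ∈ A, ∃ b ∈ B, a * b = y}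
        one_mem' := ⟨1, A.one_mem, 1, B.one_mem, one_mul 1⟩
        mul_mem' := by
          rintro _ _ ⟨a, ha, b, hb, rfl⟩ ⟨c, hc, d, hd, rfl⟩
          refine ⟨a * c, A.mul_mem ha hc, b * d, B.mul_mem hb hd, ?_⟩
          calc a * c * (b * d) = a * (c * b) * d := by group
            _ = a * (b * c) * d := by rw [h c hc b hb]
            _ = a * b * (c * d) := by group
        inv_mem' := by
          rintro _ ⟨a, ha, b, hb, rfl⟩
          refine ⟨a⁻¹, A.inv_mem ha, b⁻¹, B.inv_mem hb, ?_⟩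
          rw [h _ (A.inv_mem ha) _ (B.inv_mem hb), mul_inv_rev] }
    have hL : A ⊔ B ≤ L := sup_le
      (fun a ha => ⟨a, ha, 1, B.one_mem, mul_one a⟩) (fun b hb => ⟨1, A.one_mem, b, hb, one_mul b⟩)
    exact hL hx
  · rintro ⟨a, ha, b, hb, rfl⟩
    exact (A ⊔ B).mul_mem ((le_sup_left : A ≤ _) ha) ((le_sup_right : B ≤ _) hb)

namespace Clean

variable {t z : G} {Q K SK P₀ : Subgroup G}

theorem cenS (h : Clean t z Q K SK P₀) : ∀ q ∈ Q, ∀ s ∈ SK, q * s = s * q :=
  fun q hq s hs => h.cen q hq s (h.SK_le hs)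

/-- the elements of `T = Q S_K` -/
theorem mem_T (h : Clean t z Q K SK P₀) {x : G} : x ∈ Q ⊔ SK ↔ ∃ q ∈ Q, ∃ s ∈ SK, q * s = x :=
  mem_sup_of_comm h.cenS

theorem eq_of_mul (h : Clean t z Q K SK P₀) {q r k l : G} (hq : q ∈ Q) (hr : r ∈ Q) (hk : k ∈ K)
    (hl : l ∈ K) (e : q * k = r * l) : q = r ∧ k = l := by
  have h1 : r⁻¹ * q = l * k⁻¹ := by
    calc r⁻¹ * q = r⁻¹ * (q * k) * k⁻¹ := by group
      _ = r⁻¹ * (r * l) * k⁻¹ := by rw [e]
      _ = l * k⁻¹ := by group
  have h2 : r⁻¹ * q = 1 := h.inf _ (Q.mul_mem (Q.inv_mem hr) hq)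
    (by rw [h1]; exact K.mul_mem hl (K.inv_mem hk))
  have h3 : q = r := (inv_mul_eq_one.1 h2).symm
  refine ⟨h3, ?_⟩
  rw [h3] at e
  exact mul_left_cancel e

/-- the involution of `Q` is unique -/
theorem eq_of_sq (h : Clean t z Q K SK P₀) {q : G} (hq : q ∈ Q) (hqq : q * q = 1) :
    q = 1 ∨ q = t := by
  have := h.cyc
  by_cases hfin : Finite Q
  · by_contra hne
    push Not at hne
    let _ := IsCyclic.commGroup (α := Q)
    have := Fintype.ofFinite Q
    classical
    have h1 := IsCyclic.card_pow_eq_one_le (α := Q) (n := 2) (by norm_num)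
    have h2 : ({1, ⟨t, h.tQ⟩, ⟨q, hq⟩} : Finset Q) ⊆
        Finset.univ.filter (fun a : Q => a ^ 2 = 1) := by
      intro a ha
      rw [Finset.mem_filter]
      refine ⟨Finset.mem_univ _, ?_⟩
      rw [Finset.mem_insert, Finset.mem_insert, Finset.mem_singleton] at ha
      rcases ha with rfl | rfl | rfl
      · exact one_pow 2
      · rw [pow_two]; exact Subtype.ext h.tt
      · rw [pow_two]; exact Subtype.ext hqq
    have h3 : ({1, ⟨t, h.tQ⟩, ⟨q, hq⟩} : Finset Q).card = 3 := by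
      rw [Finset.card_eq_three]
      refine ⟨_, _, _, ?_, ?_, ?_, rfl⟩
      · intro e; exact h.t1 (congrArg Subtype.val e).symm
      · intro e; exact hne.1 (congrArg Subtype.val e).symm
      · intro e; exact hne.2 (congrArg Subtype.val e).symm
    have h4 := Finset.card_le_card h2
    omega
  · -- an infinite cyclic group has no involution
    exfalso
    have hinf : Infinite Q := not_finite_iff_infinite.1 hfin
    obtain ⟨g, hg⟩ := IsCyclic.exists_generator (α := Q)
    obtain ⟨n, hn⟩ := mem_zpowers_iff.1 (hg ⟨t, h.tQ⟩)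
    have h0 : orderOf g = 0 := by
      rw [orderOf_eq_card_of_forall_mem_zpowers hg]
      exact Nat.card_eq_zero_of_infinite
    have h5 : g ^ (2 * n) = 1 := by
      rw [two_mul, zpow_add, hn]
      exact Subtype.ext h.tt
    have h6 : (orderOf g : ℤ) ∣ 2 * n := orderOf_dvd_iff_zpow_eq_one.2 h5
    rw [h0, Nat.cast_zero, zero_dvd_iff] at h6
    have h7 : n = 0 := by omega
    rw [h7, zpow_zero] at hn
    exact h.t1 (congrArg Subtype.val hn).symm

theorem zt (h : Clean t z Q K SK P₀) : z ≠ t := fun e => h.tK (e ▸ h.zK)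

/-- the normaliser of `⟨t, z⟩` fixes `z` -/
theorem iso (h : Clean t z Q K SK P₀) (g : G)
    (h1 : g * t * g⁻¹ = t ∨ g * t * g⁻¹ = z ∨ g * t * g⁻¹ = t * z)
    (h2 : g * z * g⁻¹ = t ∨ g * z * g⁻¹ = z ∨ g * z * g⁻¹ = t * z) : g * z * g⁻¹ = z := by
  set C : Subgroup G := centralizer ({t} : Set G) ⊓ centralizer ({z} : Set G) with hC
  have htz : t * z = z * t := h.cen t h.tQ z h.zK
  have hmemC : ∀ x, x ∈ C ↔ x * t = t * x ∧ x * z = z * x := by
    intro x
    rw [hC, mem_inf, mem_centralizer_singleton_iff, mem_centralizer_singleton_iff]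
  -- `C` centralises `t`, `z`, `tz`, and is the centraliser of any two of them
  have hconj : ∀ g : G, (g * t * g⁻¹ = t ∨ g * t * g⁻¹ = z ∨ g * t * g⁻¹ = t * z) →
      (g * z * g⁻¹ = t ∨ g * z * g⁻¹ = z ∨ g * z * g⁻¹ = t * z) →
      C.map (MulAut.conj g⁻¹).toMonoidHom ≤ C := by
    intro g h1 h2
    rintro _ ⟨x, hx, rfl⟩
    have hx' := (hmemC x).1 hx
    have hc : ∀ y, (y = t ∨ y = z ∨ y = t * z) → x * y = y * x := by
      rintro y (rfl | rfl | rfl)
      · exact hx'.1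
      · exact hx'.2
      · calc x * (t * z) = (x * t) * z := by group
          _ = t * (x * z) := by rw [hx'.1]; group
          _ = t * z * x := by rw [hx'.2]; group
    have hb : ∀ y, x * (g * y * g⁻¹) = g * y * g⁻¹ * x →
        g⁻¹ * x * g⁻¹⁻¹ * y = y * (g⁻¹ * x * g⁻¹⁻¹) := by
      intro y hy
      calc g⁻¹ * x * g⁻¹⁻¹ * y = g⁻¹ * (x * (g * y * g⁻¹)) * g := by group
        _ = g⁻¹ * (g * y * g⁻¹ * x) * g := by rw [hy]
        _ = y * (g⁻¹ * x * g⁻¹⁻¹) := by group
    exact (hmemC _).2 ⟨hb t (hc _ h1), hb z (hc _ h2)⟩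
  obtain ⟨n, hn⟩ := h.sol
  obtain ⟨m, hm⟩ := h.P_der
  have hPC : P₀ ≤ C := by
    intro x hx
    have h3 := h.P_le hx
    rw [mem_inf, mem_centralizer_singleton_iff] at h3
    exact (hmemC x).2 ⟨(h.cen t h.tQ x h3.1).symm, h3.2⟩
  have hD : dser (m + n) C = P₀ := by
    apply le_antisymm
    · rw [dser_add]
      refine le_trans (dser_mono m ?_) hm
      refine le_inf ?_ ?_
      · exact (dser_mono n inf_le_left).trans hn
      · exact (dser_le n C).trans inf_le_right
    · have h3 := dser_mono (m + n) hPC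
      rwa [dser_of_perfect _ h.perf] at h3
  -- `P₀` is normalised by `g`
  have h3 : P₀.map (MulAut.conj g⁻¹).toMonoidHom ≤ P₀ := by
    have h4 := dser_mono (m + n) (hconj g h1 h2)
    rwa [dser_map, hD] at h4
  have h5 : g⁻¹ * z * g ∈ P₀ := by
    have h6 : (MulAut.conj g⁻¹) z ∈ P₀ := h3 (mem_map_of_mem _ h.zP)
    rw [MulAut.conj_apply, inv_inv] at h6
    exact h6
  have h7 : g⁻¹ * z * g ∈ K := (mem_inf.1 (h.P_le h5)).1
  have htzK : t * z ∉ K := fun e => h.tK (by
    have := K.mul_mem e (K.inv_mem h.zK)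
    rwa [mul_inv_cancel_right] at this)
  have hmul : g * (t * z) * g⁻¹ = (g * t * g⁻¹) * (g * z * g⁻¹) := by group
  have back : ∀ y, g * y * g⁻¹ = z → y ∈ K := by
    intro y hy
    have : g⁻¹ * z * g = y := by rw [← hy]; group
    rwa [this] at h7
  have hinj : ∀ c d, g * c * g⁻¹ = g * d * g⁻¹ → c = d :=
    fun c d e => mul_left_cancel (mul_right_cancel e)
  rcases h2 with h2 | h2 | h2
  · exfalso
    rcases h1 with h1 | h1 | h1
    · exact h.zt (hinj _ _ (h2.trans h1.symm))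
    · exact h.tK (back t h1)
    · apply htzK
      apply back
      rw [hmul, h1, h2, htz, mul_assoc, h.tt, mul_one]
  · exact h2
  · exfalso
    rcases h1 with h1 | h1 | h1
    · apply htzK
      apply back
      rw [hmul, h1, h2, ← mul_assoc, h.tt, one_mul]
    · exact h.tK (back t h1)
    · exact h.zt (hinj _ _ (h2.trans h1.symm))

/-- `T` is a 2-group -/
theorem pT (h : Clean t z Q K SK P₀) : IsPGroup 2 (Q ⊔ SK : Subgroup G) := by
  apply h.pQ.to_sup_of_normal_left'  h.pS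
  intro s hs
  rw [mem_normalizer_iff]
  intro q
  constructor
  · intro hq
    rw [← h.cenS q hq s hs]
    have : q * s * s⁻¹ = q := by group
    rw [this]; exact hq
  · intro hq
    have h1 := h.cenS _ hq s hs
    have h2 : q = s * q * s⁻¹ := by
      have h3 : s * q = s * (s * q * s⁻¹) := by rw [← h1]; group
      exact mul_left_cancel h3
    rw [h2]; exact hq

theorem T_le (h : Clean t z Q K SK P₀) : Q ⊔ SK ≤ centralizer ({t} : Set G) := by
  rw [sup_le_iff]
  exact ⟨fun q hq => mem_centralizer_singleton_iff.2 (h.qq q hq t h.tQ),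
    fun s hs => mem_centralizer_singleton_iff.2 (h.cenS t h.tQ s hs).symm⟩

theorem QK_le (h : Clean t z Q K SK P₀) : Q ⊔ K ≤ centralizer ({t} : Set G) := by
  rw [sup_le_iff]
  exact ⟨fun q hq => mem_centralizer_singleton_iff.2 (h.qq q hq t h.tQ),
    fun s hs => mem_centralizer_singleton_iff.2 (h.cen t h.tQ s hs).symm⟩

theorem card_sup (h : Clean t z Q K SK P₀) {L : Subgroup G} (hL : L ≤ K) :
    Nat.card (Q ⊔ L : Subgroup G) = Nat.card Q * Nat.card L := by
  rw [← Nat.card_prod]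
  symm
  apply Nat.card_congr
  have hc : ∀ q ∈ Q, ∀ l ∈ L, q * l = l * q := fun q hq l hl => h.cen q hq l (hL hl)
  apply Equiv.ofBijective (fun a : Q × L => (⟨a.1 * a.2, (Q ⊔ L).mul_mem
    ((le_sup_left : Q ≤ _) a.1.2) ((le_sup_right : L ≤ _) a.2.2)⟩ : (Q ⊔ L : Subgroup G)))
  constructor
  · intro a b e
    have e' : (a.1 : G) * a.2 = b.1 * b.2 := congrArg Subtype.val e
    obtain ⟨h1, h2⟩ := h.eq_of_mul a.1.2 b.1.2 (hL a.2.2) (hL b.2.2) e'
    exact Prod.ext (Subtype.ext h1) (Subtype.ext h2)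
  · rintro ⟨x, hx⟩
    obtain ⟨q, hq, l, hl, e⟩ := (mem_sup_of_comm hc).1 hx
    exact ⟨(⟨q, hq⟩, ⟨l, hl⟩), Subtype.ext e⟩

/-- index of `T` in `C(t)` is odd -/
theorem odd_T [Finite G] (h : Clean t z Q K SK P₀) :
    ¬ 2 ∣ (Q ⊔ SK).relIndex (centralizer ({t} : Set G)) := by
  have h1 : (Q ⊔ SK).relIndex (Q ⊔ K) * (Q ⊔ K).relIndex (centralizer ({t} : Set G)) =
      (Q ⊔ SK).relIndex (centralizer ({t} : Set G)) :=
    relIndex_mul_relIndex _ _ _ (sup_le_sup_left h.SK_le Q) h.QK_le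
  have h2 : (Q ⊔ SK).relIndex (Q ⊔ K) ∣ SK.relIndex K := by
    have e1 : ∀ A B : Subgroup G, A ≤ B → Nat.card A * A.relIndex B = Nat.card B := by
      intro A B hAB
      have := relIndex_mul_relIndex ⊥ A B bot_le hAB
      rwa [relIndex_bot_left, relIndex_bot_left] at this
    have e2 := e1 (Q ⊔ SK) (Q ⊔ K) (sup_le_sup_left h.SK_le Q)
    have e3 := e1 SK K h.SK_le
    rw [h.card_sup h.SK_le, h.card_sup le_rfl, ← e3] at e2
    have e4 : (Q ⊔ SK).relIndex (Q ⊔ K) = SK.relIndex K := by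
      apply Nat.eq_of_mul_eq_mul_left (Nat.mul_pos (Nat.card_pos (α := Q)) (Nat.card_pos (α := SK)))
      rw [e2, mul_assoc]
    rw [e4]
  rw [← h1]
  intro h3
  rcases (Nat.prime_two.dvd_mul).1 h3 with h4 | h4
  · exact h.oddS (h4.trans h2)
  · exact h.odd h4

/-- `T` is a Sylow subgroup of `C(t)` -/
theorem max_T [Finite G] (h : Clean t z Q K SK P₀) (P : Subgroup G) (hP : IsPGroup 2 P)
    (hle : Q ⊔ SK ≤ P) (hPt : ∀ x ∈ P, x * t = t * x) : P ≤ Q ⊔ SK := by
  have hPC : P ≤ centralizer ({t} : Set G) := fun x hx =>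
    mem_centralizer_singleton_iff.2 (hPt x hx)
  have h1 : (Q ⊔ SK).relIndex P * P.relIndex (centralizer ({t} : Set G)) =
      (Q ⊔ SK).relIndex (centralizer ({t} : Set G)) := relIndex_mul_relIndex _ _ _ hle hPC
  have h2 : ¬ 2 ∣ (Q ⊔ SK).relIndex P := fun h3 => h.odd_T (by
    rw [← h1]; exact h3.mul_right _)
  have h3 : (Q ⊔ SK).relIndex P ∣ Nat.card P := relIndex_dvd_card _ _
  obtain ⟨k, hk⟩ := IsPGroup.iff_card.1 hP
  rw [hk] at h3
  obtain ⟨j, -, hj⟩ := (Nat.dvd_prime_pow Nat.prime_two).1 h3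
  have hj0 : j = 0 := by
    by_contra hne
    apply h2
    rw [hj]
    exact dvd_pow_self 2 hne
  rw [hj0, pow_zero, relIndex_eq_one] at hj
  exact hj

theorem mem_of_centralT (h : Clean t z Q K SK P₀) {y : G} (hy : y ∈ Q ⊔ SK)
    (hc : ∀ x ∈ Q ⊔ SK, x * y = y * x) : ∃ q ∈ Q, y = q ∨ y = q * z := by
  obtain ⟨q, hq, s, hs, rfl⟩ := h.mem_T.1 hy
  have h1 : ∀ x ∈ SK, x * s = s * x := by
    intro x hx
    have h2 := hc x ((le_sup_right : SK ≤ _) hx)
    have h3 := h.cenS q hq x hx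
    have h4 : q * (x * s) = q * (s * x) := by
      calc q * (x * s) = (q * x) * s := by group
        _ = x * (q * s) := by rw [h3]; group
        _ = q * (s * x) := by rw [h2]; group
    exact mul_left_cancel h4
  rcases h.cS s hs h1 with rfl | rfl
  · exact ⟨q, hq, Or.inl (mul_one q)⟩
  · exact ⟨q, hq, Or.inr rfl⟩

/-- the frame of the clean case -/
theorem frame [Finite G] (h : Clean t z Q K SK P₀) : Frame t z (Q ⊔ SK) where
  tt := h.tt
  zz := h.zz
  t1 := h.t1
  z1 := h.z1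
  ne := h.zt
  pT := h.pT
  tT := (le_sup_left : Q ≤ _) h.tQ
  tc := fun x hx => mem_centralizer_singleton_iff.1 (h.T_le hx)
  zT := (le_sup_right : SK ≤ _) h.zS
  zc := by
    intro x hx
    obtain ⟨q, hq, s, hs, rfl⟩ := h.mem_T.1 hx
    calc q * s * z = q * (s * z) := by group
      _ = (q * z) * s := by rw [h.zc s hs]; group
      _ = z * (q * s) := by rw [h.cen q hq z h.zK]; group
  max := h.max_T
  om := by
    intro y hy hc hyy
    obtain ⟨q, hq, rfl | rfl⟩ := h.mem_of_centralT hy hc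
    · rcases h.eq_of_sq hq hyy with e | e
      · exact Or.inl e
      · exact Or.inr (Or.inl e)
    · have h1 : q * q = 1 := by
        have h2 := h.cen q hq z h.zK
        calc q * q = q * q * (z * z) := by rw [h.zz, mul_one]
          _ = q * (q * z) * z := by group
          _ = q * (z * q) * z := by rw [h2]
          _ = q * z * (q * z) := by group
          _ = 1 := hyy
      rcases h.eq_of_sq hq h1 with e | e
      · exact Or.inr (Or.inr (Or.inl (by rw [e, one_mul])))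
      · exact Or.inr (Or.inr (Or.inr (by rw [e])))
  iso := h.iso

/-- `t` is not in the commutator subgroup of `T = Q × S_K` -/
theorem not_mem_commutator (h : Clean t z Q K SK P₀) :
    (⟨t, (le_sup_left : Q ≤ Q ⊔ SK) h.tQ⟩ : (Q ⊔ SK : Subgroup G)) ∉
      commutator (Q ⊔ SK : Subgroup G) := by
  intro h1
  have h2 : commutator (Q ⊔ SK : Subgroup G) ≤ SK.subgroupOf (Q ⊔ SK) := by
    rw [commutator_def, commutator_le]
    rintro ⟨a, ha⟩ - ⟨b, hb⟩ -
    rw [mem_subgroupOf]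
    show a * b * a⁻¹ * b⁻¹ ∈ SK
    obtain ⟨q, hq, s, hs, rfl⟩ := h.mem_T.1 ha
    obtain ⟨r, hr, u, hu, rfl⟩ := h.mem_T.1 hb
    have e : q * s * (r * u) * (q * s)⁻¹ * (r * u)⁻¹ = s * u * s⁻¹ * u⁻¹ := by
      have e1 := h.cenS r hr s hs
      have e2 := h.cenS q hq u hu
      have e3 := h.cenS r hr u hu
      have e4 := h.cenS q hq s hs
      have e5 := h.qq q hq r hr
      calc q * s * (r * u) * (q * s)⁻¹ * (r * u)⁻¹
          = q * (s * r) * u * s⁻¹ * q⁻¹ * u⁻¹ * r⁻¹ := by group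
        _ = (q * r) * s * u * s⁻¹ * q⁻¹ * u⁻¹ * r⁻¹ := by rw [← e1]; group
        _ = r * (q * (s * u * s⁻¹)) * q⁻¹ * u⁻¹ * r⁻¹ := by rw [e5]; group
        _ = r * ((s * u * s⁻¹) * q) * q⁻¹ * u⁻¹ * r⁻¹ := by
            rw [h.cenS q hq _ (SK.mul_mem (SK.mul_mem hs hu) (SK.inv_mem hs))]
        _ = r * (s * u * s⁻¹ * u⁻¹) * r⁻¹ := by group
        _ = s * u * s⁻¹ * u⁻¹ := by
            rw [h.cenS r hr _ (SK.mul_mem (SK.mul_mem (SK.mul_mem hs hu) (SK.inv_mem hs))
              (SK.inv_mem hu))]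
            group
    rw [e]
    exact SK.mul_mem (SK.mul_mem (SK.mul_mem hs hu) (SK.inv_mem hs)) (SK.inv_mem hu)
  have h3 := h2 h1
  rw [mem_subgroupOf] at h3
  exact h.tK (h.SK_le h3)

/-- **clean case**: `Q = ⟨t⟩`, `t ~ tz`, `t ∈ C_G(z)'`. -/
theorem main [Finite G] (h : Clean t z Q K SK P₀) (hG : commutator G = ⊤) :
    (∀ q ∈ Q, q = 1 ∨ q = t) ∧
    ∃ S : Sylow 2 G, Q ⊔ SK < (S : Subgroup G) ∧ (∀ s ∈ (S : Subgroup G), s * z = z * s) ∧
      (∃ x ∈ (S : Subgroup G), x ∈ normalizer ((Q ⊔ SK : Subgroup G) : Set G) ∧ x ∉ Q ⊔ SK ∧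
        x * t * x⁻¹ = t * z ∧ x * z * x⁻¹ = z) ∧
      (∀ g, g * t * g⁻¹ ≠ z) ∧
      (⟨t, mem_centralizer_singleton_iff.2 h.frame.comm⟩ : centralizer ({z} : Set G)) ∈
        commutator (centralizer ({z} : Set G)) := by
  obtain ⟨S, hS, hz, ⟨x, hxS, hxN, hxT, hxt, hxz⟩, hnc, hcom⟩ :=
    h.frame.main' hG h.not_mem_commutator
  refine ⟨?_, S, hS, hz, ⟨x, hxS, hxN, hxT, hxt, hxz⟩, hnc, hcom⟩
  intro q hq
  by_contra hne
  push Not at hne
  -- some element of `Q` has square `t`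
  obtain ⟨r, hr, hrt⟩ : ∃ r ∈ Q, r * r = t := by
    have hcyc := h.cyc
    obtain ⟨⟨g, hg⟩, hgen⟩ := IsCyclic.exists_generator (α := Q)
    obtain ⟨k, hk⟩ := h.pQ ⟨g, hg⟩
    have hk' : g ^ 2 ^ k = 1 := congrArg Subtype.val hk
    -- least such `k`
    have hex : ∃ k, g ^ 2 ^ k = 1 := ⟨k, hk'⟩
    classical
    set m := Nat.find hex with hm
    have hm1 : g ^ 2 ^ m = 1 := Nat.find_spec hex
    have hmlt : ∀ j < m, g ^ 2 ^ j ≠ 1 := fun j hj => Nat.find_min hex hj
    have hm2 : 2 ≤ m := by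
      by_contra hlt
      push Not at hlt
      -- then `g * g = 1` and `Q ⊆ {1, g}`
      have hg2 : g * g = 1 := by
        have : m = 0 ∨ m = 1 := by omega
        rcases this with e | e
        · rw [e, pow_zero, pow_one] at hm1
          rw [hm1, one_mul]
        · rw [e, pow_one, pow_two] at hm1
          exact hm1
      have hgt := h.eq_of_sq hg hg2
      obtain ⟨i, hi⟩ := mem_zpowers_iff.1 (hgen ⟨q, hq⟩)
      have hi' : g ^ i = q := congrArg Subtype.val hi
      have h6 : g ^ (2 : ℤ) = 1 := by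
        rw [zpow_ofNat, pow_two]
        exact hg2
      rcases Int.even_or_odd' i with ⟨j, rfl | rfl⟩
      · rw [zpow_mul, h6, one_zpow] at hi'
        exact hne.1 hi'.symm
      · rw [zpow_add, zpow_mul, h6, one_zpow, one_mul, zpow_one] at hi'
        rcases hgt with e | e
        · exact hne.1 (hi'.symm.trans e)
        · exact hne.2 (hi'.symm.trans e)
    refine ⟨g ^ 2 ^ (m - 2), Q.pow_mem hg _, ?_⟩
    have e1 : g ^ 2 ^ (m - 2) * g ^ 2 ^ (m - 2) = g ^ 2 ^ (m - 1) := by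
      rw [← pow_add, ← two_mul, ← pow_succ']
      congr 2
      omega
    rw [e1]
    have e2 : g ^ 2 ^ (m - 1) * g ^ 2 ^ (m - 1) = 1 := by
      rw [← pow_add, ← two_mul, ← pow_succ', show m - 1 + 1 = m by omega, hm1]
    exact (h.eq_of_sq (Q.pow_mem hg _) e2).resolve_left (hmlt (m - 1) (by omega))
  -- `y = x r x⁻¹` is central in `T` with `y² = tz`
  have hTx := mem_normalizer_iff.1 hxN
  have hrT : r ∈ Q ⊔ SK := (le_sup_left : Q ≤ _) hr
  have hyT : x * r * x⁻¹ ∈ Q ⊔ SK := (hTx r).1 hrT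
  have hrc : ∀ u ∈ Q ⊔ SK, u * r = r * u := by
    intro u hu
    obtain ⟨a, ha, s, hs, rfl⟩ := h.mem_T.1 hu
    calc a * s * r = a * (s * r) := by group
      _ = (a * r) * s := by rw [← h.cenS r hr s hs]; group
      _ = r * (a * s) := by rw [h.qq a ha r hr]; group
  have hyc : ∀ u ∈ Q ⊔ SK, u * (x * r * x⁻¹) = x * r * x⁻¹ * u := by
    intro u hu
    have h1 : x⁻¹ * u * x ∈ Q ⊔ SK := by
      apply (hTx _).2
      have e : x * (x⁻¹ * u * x) * x⁻¹ = u := by group
      rw [e]; exact hu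
    have h2 := hrc _ h1
    calc u * (x * r * x⁻¹) = x * (x⁻¹ * u * x * r) * x⁻¹ := by group
      _ = x * (r * (x⁻¹ * u * x)) * x⁻¹ := by rw [h2]
      _ = x * r * x⁻¹ * u := by group
  have hy2 : x * r * x⁻¹ * (x * r * x⁻¹) = t * z := by
    calc x * r * x⁻¹ * (x * r * x⁻¹) = x * (r * r) * x⁻¹ := by group
      _ = t * z := by rw [hrt, hxt]
  obtain ⟨a, ha, hya | hya⟩ := h.mem_of_centralT hyT hyc
  · rw [hya] at hy2
    have : z = t⁻¹ * (a * a) := by rw [hy2]; group
    exact h.z1 (h.inf z (by rw [this]; exact Q.mul_mem (Q.inv_mem h.tQ) (Q.mul_mem ha ha)) h.zK)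
  · have h3 : a * a = t * z := by
      rw [← hy2, hya]
      have h2 := h.cen a ha z h.zK
      calc a * a = a * a * (z * z) := by rw [h.zz, mul_one]
        _ = a * (a * z) * z := by group
        _ = a * (z * a) * z := by rw [h2]
        _ = a * z * (a * z) := by group
    have : z = t⁻¹ * (a * a) := by rw [h3]; group
    exact h.z1 (h.inf z (by rw [this]; exact Q.mul_mem (Q.inv_mem h.tQ) (Q.mul_mem ha ha)) h.zK)


end Clean

end Cfsg.Agent.OddHalf.TR
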