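import Cfsg.Agent.OddHalf.Iso5
import Cfsg.Agent.Prune
set_option linter.all false
prune_inst 0x7f00000000000000000000000000000000000000000000000000000000000000000000000000000000000000000000000000000000000000000000000000000000000000000000000000000000000000003fffffffffffffffffffffffffffbeffbdffffffff
open scoped Cfsg.Agent.FastGrp

/-!
# The families of Lie type in odd characteristic

* `Rk q X`: `X` is of Lie type of rank at least 2 over the field with `q` elements (`PSL_n`, `n ≥ 3`; `PSp_2m`,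
  `m ≥ 2`; `PSU_n(q)`, `n ≥ 3`; orthogonal groups of dimension at least 7; exceptional groups; `²E₆(q)`, `³D₄(q)`);
* `lieOdd_cases`: a group of Lie type in odd characteristic which is not alternating is `PSL(2,7)`, `PSL(2,q)` with
  `q ≥ 11`, a Ree group or has `Rk q` for an odd prime power `q`;
* `rk_congr`, ... : invariance.
-/

set_option autoImplicit false
set_option linter.style.haveILetI false

namespace Cfsg.Agent.OddHalf.LieOddFam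

open Subgroup Cfsg Cfsg.Agent.OddHalf.Iface

universe u v

section Defs

variable (X : Type u) [Group X]

/-- `PSL(2,7)` -/
def XL27 : Prop := ∃ (F : Type) (_ : Field F) (_ : Fintype F), Fintype.card F = 7 ∧
  Nonempty (X ≃* Matrix.ProjectiveSpecialLinearGroup (Fin 2) F)

/-- `PSL(2,q)`, `q ≥ 11` odd -/
def XL2Big : Prop := ∃ (F : Type) (_ : Field F) (_ : Fintype F), Odd (Fintype.card F) ∧ 11 ≤ Fintype.card F ∧
  Nonempty (X ≃* Matrix.ProjectiveSpecialLinearGroup (Fin 2) F)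

/-- `PSL_n(q)`, `n ≥ 3` -/
def FL (q : ℕ) : Prop := ∃ (F : Type) (_ : Field F) (_ : Fintype F) (n : ℕ), Fintype.card F = q ∧ 3 ≤ n ∧
  Nonempty (X ≃* Matrix.ProjectiveSpecialLinearGroup (Fin n) F)

/-- `PSp_{2m}(q)`, `m ≥ 2` -/
def FSp (q : ℕ) : Prop := ∃ (F : Type) (_ : Field F) (_ : Fintype F) (m : ℕ), Fintype.card F = q ∧ 2 ≤ m ∧
  Nonempty (X ≃* PSp m F)

/-- `PSU_n(q)`, `n ≥ 3` -/
def FU (q : ℕ) : Prop := ∃ (F : Type) (_ : Field F) (_ : Fintype F) (n : ℕ), Fintype.card F = q ^ 2 ∧ 3 ≤ n ∧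
  Nonempty (X ≃* PSU n F q)

/-- `PΩ_{2m+1}(q)`, `m ≥ 3` -/
def FOdd (q : ℕ) : Prop := ∃ (F : Type) (_ : Field F) (_ : Fintype F) (m : ℕ), Fintype.card F = q ∧ 3 ≤ m ∧
  Nonempty (X ≃* POmega F (quadFormOdd m F))

/-- `PΩ⁺_{2m}(q)`, `m ≥ 4` -/
def FPlus (q : ℕ) : Prop := ∃ (F : Type) (_ : Field F) (_ : Fintype F) (m : ℕ), Fintype.card F = q ∧ 4 ≤ m ∧
  Nonempty (X ≃* POmega F (quadFormPlus m F))

/-- `PΩ⁻_{2m}(q)`, `m ≥ 4` -/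
def FMinus (q : ℕ) : Prop := ∃ (F : Type) (_ : Field F) (_ : Fintype F) (m : ℕ) (b c : F), Fintype.card F = q ∧
  4 ≤ m ∧ (∀ z₁ z₂ : F, z₁ ^ 2 + b * z₁ * z₂ + c * z₂ ^ 2 = 0 → z₁ = 0 ∧ z₂ = 0) ∧
  Nonempty (X ≃* POmega F (quadFormMinus (m - 1) F b c))

/-- `G₂(q)` -/
def FG2 (q : ℕ) : Prop := ∃ (F : Type) (_ : Field F) (_ : Fintype F), Fintype.card F = q ∧
  Nonempty (X ≃* ↥(Lie.chevG2.group F))

/-- `F₄(q)` -/
def FF4 (q : ℕ) : Prop := ∃ (F : Type) (_ : Field F) (_ : Fintype F), Fintype.card F = q ∧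
  Nonempty (X ≃* ↥(Lie.chevF4.group F))

/-- `E₆(q)` -/
def FE6 (q : ℕ) : Prop := ∃ (F : Type) (_ : Field F) (_ : Fintype F), Fintype.card F = q ∧
  Nonempty (X ≃* ↥(Lie.chevE6.group F))

/-- `E₇(q)` -/
def FE7 (q : ℕ) : Prop := ∃ (F : Type) (_ : Field F) (_ : Fintype F), Fintype.card F = q ∧
  Nonempty (X ≃* ↥(Lie.chevE7.group F))

/-- `E₈(q)` -/
def FE8 (q : ℕ) : Prop := ∃ (F : Type) (_ : Field F) (_ : Fintype F), Fintype.card F = q ∧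
  Nonempty (X ≃* ↥(Lie.chevE8.group F))

/-- `²E₆(q)` -/
def F2E6 (q : ℕ) : Prop := ∃ (F : Type) (_ : Field F) (_ : Fintype F), Fintype.card F = q ^ 2 ∧
  Nonempty (X ≃* ↥(Lie.twistedE6 F q))

/-- `³D₄(q)` -/
def F3D4 (q : ℕ) : Prop := ∃ (F : Type) (_ : Field F) (_ : Fintype F), Fintype.card F = q ^ 3 ∧
  Nonempty (X ≃* ↥(Lie.twistedD4 F q))

/-- Lie type of rank at least 2 (the rank of the untwisted group) over the field with `q` elements. -/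
def Rk (q : ℕ) : Prop :=
  FL X q ∨ FSp X q ∨ FU X q ∨ FOdd X q ∨ FPlus X q ∨ FMinus X q ∨ FG2 X q ∨ FF4 X q ∨ FE6 X q ∨ FE7 X q ∨
    FE8 X q ∨ F2E6 X q ∨ F3D4 X q

end Defs

/-- odd prime powers -/
def OddPow (q : ℕ) : Prop := ∃ p a : ℕ, p.Prime ∧ p ≠ 2 ∧ 1 ≤ a ∧ q = p ^ a

theorem OddPow.odd {q : ℕ} (h : OddPow q) : Odd q := by
  obtain ⟨p, a, hp, h2, -, rfl⟩ := h
  exact (hp.odd_of_ne_two h2).pow

theorem OddPow.three_le {q : ℕ} (h : OddPow q) : 3 ≤ q := by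
  obtain ⟨p, a, hp, h2, ha, rfl⟩ := h
  have h1 : 3 ≤ p := by
    have := hp.two_le
    omega
  calc 3 ≤ p := h1
    _ = p ^ 1 := (pow_one p).symm
    _ ≤ p ^ a := Nat.pow_le_pow_right (by omega) ha

theorem OddPow.isPrimePow {q : ℕ} (h : OddPow q) : IsPrimePow q := by
  obtain ⟨p, a, hp, -, ha, rfl⟩ := h
  exact ⟨p, a, hp.prime, ha, rfl⟩

theorem OddPow.ne_four {q : ℕ} (h : OddPow q) (h3 : q ≠ 3) : 5 ≤ q := by
  have h1 := h.three_le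
  have h2 := h.odd
  rcases h2 with ⟨k, hk⟩
  omega

section Field

variable {F : Type} [Field F] [Fintype F]

/-- The order of a finite field of characteristic `p`. -/
theorem card_pow (p : ℕ) [CharP F p] : ∃ a : ℕ, 1 ≤ a ∧ Fintype.card F = p ^ a := by
  obtain ⟨n, -, hn⟩ := FiniteField.card F p
  exact ⟨n, n.pos, hn⟩

theorem oddPow_card {p : ℕ} (hp : p.Prime) (h2 : p ≠ 2) [CharP F p] : OddPow (Fintype.card F) := by
  obtain ⟨a, ha, h⟩ := card_pow (F := F) p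
  exact ⟨p, a, hp, h2, ha, h⟩

/-- `q ^ k` a prime power gives `q` a power of the same prime. -/
theorem oddPow_root {p : ℕ} (hp : p.Prime) (h2 : p ≠ 2) {q k a : ℕ} (hk : k ≠ 0) (ha : 1 ≤ a)
    (h : q ^ k = p ^ a) : OddPow q := by
  have h1 : q ∣ p ^ a := h ▸ dvd_pow_self q hk
  obtain ⟨b, -, hb⟩ := (Nat.dvd_prime_pow hp).mp h1
  refine ⟨p, b, hp, h2, ?_, hb⟩
  by_contra hb0
  have h2 : b = 0 := by omega
  rw [hb, h2, pow_zero, one_pow] at h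
  have h3 : p ^ 1 ≤ p ^ a := Nat.pow_le_pow_right hp.pos ha
  rw [pow_one, ← h] at h3
  have := hp.two_le
  omega

end Field

section Cases

variable {X : Type u} [Group X]

/-- **The families.** -/
theorem lieOdd_cases (h : LieOdd X) (ha : ¬ IsAlternating X) :
    XL27 X ∨ XL2Big X ∨ Lie.IsoRee X ∨ ∃ q : ℕ, OddPow q ∧ Rk X q := by
  obtain ⟨p, hp, h2, h⟩ := h
  have key : (∃ q : ℕ, OddPow q ∧ Rk X q) →
      XL27 X ∨ XL2Big X ∨ Lie.IsoRee X ∨ ∃ q : ℕ, OddPow q ∧ Rk X q := fun h => Or.inr (Or.inr (Or.inr h))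
  rcases h with h | h | h | h | h | h | h | h | ⟨h', -⟩ | ⟨h', -⟩ | ⟨-, h⟩
  · -- linear groups
    obtain ⟨F, _, _, _, n, h1, h3, ⟨e⟩⟩ := h
    have hq := oddPow_card (F := F) hp h2
    by_cases hn : n = 2
    · subst hn
      have h4 := h3 rfl
      have h5 : Fintype.card F ≠ 5 := fun h5 => ha (Iso5.isAlternating_of_l25 h5 e)
      have h9 : Fintype.card F ≠ 9 := fun h9 => ha (Iso5.isAlternating_of_l29 h9 e)
      by_cases h7 : Fintype.card F = 7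
      · exact Or.inl ⟨F, _, _, h7, ⟨e⟩⟩
      · refine Or.inr (Or.inl ⟨F, _, _, hq.odd, ?_, ⟨e⟩⟩)
        obtain ⟨k, hk⟩ := hq.odd
        omega
    · exact key ⟨_, hq, Or.inl ⟨F, _, _, n, rfl, by omega, ⟨e⟩⟩⟩
  · -- symplectic groups
    obtain ⟨F, _, _, _, m, h1, -, ⟨e⟩⟩ := h
    exact key ⟨_, oddPow_card (F := F) hp h2, Or.inr (Or.inl ⟨F, _, _, m, rfl, h1, ⟨e⟩⟩)⟩
  · -- unitary groups
    obtain ⟨F, _, _, _, n, q, h1, h3, -, ⟨e⟩⟩ := h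
    obtain ⟨a, ha, hF⟩ := card_pow (F := F) p
    have hq := oddPow_root hp h2 two_ne_zero ha (h1.symm.trans hF)
    exact key ⟨q, hq, Or.inr (Or.inr (Or.inl ⟨F, _, _, n, h1, h3, ⟨e⟩⟩))⟩
  · -- odd orthogonal groups
    obtain ⟨F, _, _, _, m, h1, -, ⟨e⟩⟩ := h
    exact key ⟨_, oddPow_card (F := F) hp h2, Or.inr (Or.inr (Or.inr (Or.inl ⟨F, _, _, m, rfl, h1, ⟨e⟩⟩)))⟩
  · -- `Ω⁺`
    obtain ⟨F, _, _, _, m, h1, ⟨e⟩⟩ := h
    exact key ⟨_, oddPow_card (F := F) hp h2,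
      Or.inr (Or.inr (Or.inr (Or.inr (Or.inl ⟨F, _, _, m, rfl, h1, ⟨e⟩⟩))))⟩
  · -- `Ω⁻`
    obtain ⟨F, _, _, _, m, b, c, h1, h3, ⟨e⟩⟩ := h
    exact key ⟨_, oddPow_card (F := F) hp h2,
      Or.inr (Or.inr (Or.inr (Or.inr (Or.inr (Or.inl ⟨F, _, _, m, b, c, rfl, h1, h3, ⟨e⟩⟩)))))⟩
  · -- untwisted exceptional groups
    obtain ⟨F, _, _, _, h⟩ := h
    refine key ⟨_, oddPow_card (F := F) hp h2, Or.inr (Or.inr (Or.inr (Or.inr (Or.inr (Or.inr ?_)))))⟩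
    rcases h with ⟨-, ⟨e⟩⟩ | ⟨⟨e⟩⟩ | ⟨⟨e⟩⟩ | ⟨⟨e⟩⟩ | ⟨⟨e⟩⟩
    · exact Or.inl ⟨F, _, _, rfl, ⟨e⟩⟩
    · exact Or.inr (Or.inl ⟨F, _, _, rfl, ⟨e⟩⟩)
    · exact Or.inr (Or.inr (Or.inl ⟨F, _, _, rfl, ⟨e⟩⟩))
    · exact Or.inr (Or.inr (Or.inr (Or.inl ⟨F, _, _, rfl, ⟨e⟩⟩)))
    · exact Or.inr (Or.inr (Or.inr (Or.inr (Or.inl ⟨F, _, _, rfl, ⟨e⟩⟩))))
  · -- twisted `E_6`, `D_4`
    obtain ⟨F, _, _, _, q, -, h⟩ := h
    obtain ⟨a, ha, hF⟩ := card_pow (F := F) p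
    rcases h with ⟨h1, ⟨e⟩⟩ | ⟨h1, ⟨e⟩⟩
    · exact key ⟨q, oddPow_root hp h2 two_ne_zero ha (h1.symm.trans hF),
        Or.inr (Or.inr (Or.inr (Or.inr (Or.inr (Or.inr (Or.inr (Or.inr (Or.inr (Or.inr (Or.inr
          (Or.inl ⟨F, _, _, h1, ⟨e⟩⟩)))))))))))⟩
    · exact key ⟨q, oddPow_root hp h2 three_ne_zero ha (h1.symm.trans hF),
        Or.inr (Or.inr (Or.inr (Or.inr (Or.inr (Or.inr (Or.inr (Or.inr (Or.inr (Or.inr (Or.inr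
          (Or.inr ⟨F, _, _, h1, ⟨e⟩⟩)))))))))))⟩
  · exact absurd h' h2
  · exact absurd h' h2
  · exact Or.inr (Or.inr (Or.inl h))

end Cases

/-! ### Invariance -/

section Congr

variable {X : Type u} {Y : Type v} [Group X] [Group Y] (e : X ≃* Y)

include e

theorem rk_congr {q : ℕ} (h : Rk X q) : Rk Y q := by
  rcases h with h | h | h | h | h | h | h | h | h | h | h | h | h
  · obtain ⟨F, _, _, n, h1, h2, ⟨f⟩⟩ := h
    exact Or.inl ⟨F, _, _, n, h1, h2, ⟨e.symm.trans f⟩⟩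
  · obtain ⟨F, _, _, n, h1, h2, ⟨f⟩⟩ := h
    exact Or.inr (Or.inl ⟨F, _, _, n, h1, h2, ⟨e.symm.trans f⟩⟩)
  · obtain ⟨F, _, _, n, h1, h2, ⟨f⟩⟩ := h
    exact Or.inr (Or.inr (Or.inl ⟨F, _, _, n, h1, h2, ⟨e.symm.trans f⟩⟩))
  · obtain ⟨F, _, _, n, h1, h2, ⟨f⟩⟩ := h
    exact Or.inr (Or.inr (Or.inr (Or.inl ⟨F, _, _, n, h1, h2, ⟨e.symm.trans f⟩⟩)))
  · obtain ⟨F, _, _, n, h1, h2, ⟨f⟩⟩ := h
    exact Or.inr (Or.inr (Or.inr (Or.inr (Or.inl ⟨F, _, _, n, h1, h2, ⟨e.symm.trans f⟩⟩))))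
  · obtain ⟨F, _, _, n, b, c, h1, h2, h3, ⟨f⟩⟩ := h
    exact Or.inr (Or.inr (Or.inr (Or.inr (Or.inr (Or.inl ⟨F, _, _, n, b, c, h1, h2, h3,
      ⟨e.symm.trans f⟩⟩)))))
  · obtain ⟨F, _, _, h1, ⟨f⟩⟩ := h
    exact Or.inr (Or.inr (Or.inr (Or.inr (Or.inr (Or.inr (Or.inl ⟨F, _, _, h1, ⟨e.symm.trans f⟩⟩))))))
  · obtain ⟨F, _, _, h1, ⟨f⟩⟩ := h
    exact Or.inr (Or.inr (Or.inr (Or.inr (Or.inr (Or.inr (Or.inr (Or.inl
      ⟨F, _, _, h1, ⟨e.symm.trans f⟩⟩)))))))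
  · obtain ⟨F, _, _, h1, ⟨f⟩⟩ := h
    exact Or.inr (Or.inr (Or.inr (Or.inr (Or.inr (Or.inr (Or.inr (Or.inr (Or.inl
      ⟨F, _, _, h1, ⟨e.symm.trans f⟩⟩))))))))
  · obtain ⟨F, _, _, h1, ⟨f⟩⟩ := h
    exact Or.inr (Or.inr (Or.inr (Or.inr (Or.inr (Or.inr (Or.inr (Or.inr (Or.inr (Or.inl
      ⟨F, _, _, h1, ⟨e.symm.trans f⟩⟩)))))))))
  · obtain ⟨F, _, _, h1, ⟨f⟩⟩ := h
    exact Or.inr (Or.inr (Or.inr (Or.inr (Or.inr (Or.inr (Or.inr (Or.inr (Or.inr (Or.inr (Or.inl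
      ⟨F, _, _, h1, ⟨e.symm.trans f⟩⟩))))))))))
  · obtain ⟨F, _, _, h1, ⟨f⟩⟩ := h
    exact Or.inr (Or.inr (Or.inr (Or.inr (Or.inr (Or.inr (Or.inr (Or.inr (Or.inr (Or.inr (Or.inr (Or.inl
      ⟨F, _, _, h1, ⟨e.symm.trans f⟩⟩)))))))))))
  · obtain ⟨F, _, _, h1, ⟨f⟩⟩ := h
    exact Or.inr (Or.inr (Or.inr (Or.inr (Or.inr (Or.inr (Or.inr (Or.inr (Or.inr (Or.inr (Or.inr (Or.inr
      ⟨F, _, _, h1, ⟨e.symm.trans f⟩⟩)))))))))))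

end Congr

end Cfsg.Agent.OddHalf.LieOddFam
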