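import Cfsg.Agent.OddHalf.Iface
import Cfsg.Agent.OddHalf.Known
import Cfsg.Agent.OddHalf.Small.Generic
import Cfsg.Agent.S1265
import Cfsg.Agent.S1306
import Cfsg.Agent.S1754
import Cfsg.Agent.Classification.RankOneCore
import Cfsg.Agent.Lib.PComponents
import Cfsg.Agent.SignalizersComponents.PConstrained
import Cfsg.Agent.SignalizersComponents.Components
import Cfsg.Agent.SignalizersComponents.PCompQuot
import Cfsg.Agent.Prune
set_option linter.all false
prune_inst 0x7f00000000000000000000000000000000000000000000000000000000000000000000000000000000000000000000000000000000000000000000000000000000000000000000000000000000000000003fffffffffffffffffffffffffffbeffbdffffffff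
open scoped Cfsg.Agent.FastGrp

/-!
# Soft lemmas for the odd half

* a locally balanced group of even order which is not of characteristic 2 type has a component in some involution
  centralizer (`exists_comp`);
* `Term` and non-commuting conjugates give `Std` (`std_of_term`);
* the centralizer of `K` has no quaternion Sylow 2-subgroup (`cyc_of_rank`).
-/

set_option autoImplicit false
set_option linter.style.haveILetI false

namespace Cfsg.Agent.OddHalf.Soft

open Subgroup Cfsg Cfsg.Agent.OddHalf.Iface
open Cfsg.Agent.SignalizersComponents.Components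

universe u

/-! ### Simple groups -/

section Simple

variable {G : Type u} [Group G] [IsSimpleGroup G]

theorem center_eq_bot (hna : ¬ IsMulCommutative G) : center G = ⊥ := by
  rcases (inferInstance : (center G).Normal).eq_bot_or_eq_top with h1 | h1
  · exact h1
  · exfalso
    refine hna ⟨⟨fun a b => ?_⟩⟩
    exact mem_center_iff.mp (h1 ▸ mem_top b : b ∈ center G) a

theorem quasisimple (hna : ¬ IsMulCommutative G) : IsQuasisimple G := by
  have hc := center_eq_bot hna
  refine ⟨?_, ?_⟩
  · have h1 : commutator G = ⊤ := by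
      rcases (inferInstance : (commutator G).Normal).eq_bot_or_eq_top with h1 | h1
      · exfalso
        refine hna ⟨⟨fun a b => ?_⟩⟩
        rw [commutator_def, Subgroup.commutator_eq_bot_iff_le_centralizer] at h1
        exact (mem_centralizer_iff.mp (h1 (mem_top a)) b (mem_top b)).symm
      · exact h1
    exact ⟨h1⟩
  · have e : G ≃* G ⧸ center G :=
      (QuotientGroup.quotientBot.symm).trans (QuotientGroup.quotientMulEquivOfEq hc.symm)
    exact Known.isSimple_congr e inferInstance

theorem layer_eq_top (hna : ¬ IsMulCommutative G) : layer G = ⊤ := by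
  have h1 : IsComponent (⊤ : Subgroup G) := ⟨Subgroup.IsSubnormal.top,
    SignalizersComponents.PCompQuot.quasisimple_congr Subgroup.topEquiv.symm (quasisimple hna)⟩
  have h2 : (⊤ : Subgroup G) ≤ layer G := le_sSup h1
  exact eq_top_iff.mpr h2

theorem fstar_eq_top (hna : ¬ IsMulCommutative G) : generalizedFittingSubgroup G = ⊤ := by
  rw [eq_top_iff, ← layer_eq_top hna]
  exact le_sup_left

/-- `F*(G) = G`. -/
noncomputable def fstarEquiv (hna : ¬ IsMulCommutative G) : ↥(generalizedFittingSubgroup G) ≃* G :=
  (MulEquiv.subgroupCongr (fstar_eq_top hna)).trans Subgroup.topEquiv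

/-- `E(G) = G`. -/
noncomputable def layerEquiv (hna : ¬ IsMulCommutative G) : ↥(layer G) ≃* G :=
  (MulEquiv.subgroupCongr (layer_eq_top hna)).trans Subgroup.topEquiv

theorem centralizer_ne_top (hna : ¬ IsMulCommutative G) {t : G} (ht : t ≠ 1) :
    centralizer ({t} : Set G) ≠ ⊤ := by
  intro h
  have h1 : t ∈ center G := by
    rw [mem_center_iff]
    intro g
    have h2 : g ∈ centralizer ({t} : Set G) := by rw [h]; trivial
    exact mem_centralizer_singleton_iff.mp h2
  rw [center_eq_bot hna, mem_bot] at h1
  exact ht h1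

theorem oddCore_eq_bot [Finite G] (he : Even (Nat.card G)) : oddCore G = ⊥ := by
  haveI : (oddCore G).Normal := pPrimeCore_normal 2 G
  rcases (inferInstance : (oddCore G).Normal).eq_bot_or_eq_top with h1 | h1
  · exact h1
  · exfalso
    have h2 := Lib.Cores.pPrimeCore_coprime (G := G) 2
    rw [show pPrimeCore 2 G = ⊤ from h1, Subgroup.card_top, Nat.coprime_two_right] at h2
    exact (Nat.not_even_iff_odd.mpr h2) he

end Simple

/-- A group whose 2-rank is not at most `k` has even order. -/
theorem even_of_rank {G : Type u} [Group G] [Finite G] {k : ℕ} (h : ¬ PRankLE 2 k G) : Even (Nat.card G) := by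
  by_contra hodd
  rw [Nat.not_even_iff_odd] at hodd
  apply h
  intro A _ hA
  have h1 : Nat.card ↥A = 1 := by
    have h2 : A = ⊥ := by
      rw [eq_bot_iff]
      intro a ha
      rw [mem_bot]
      by_contra ha1
      have h3 : orderOf a = 2 := orderOf_eq_prime (hA a ha) ha1
      have h4 : 2 ∣ Nat.card G := h3 ▸ orderOf_dvd_natCard a
      exact (Nat.not_even_iff_odd.mpr hodd) (even_iff_two_dvd.mpr h4)
    rw [h2, Subgroup.card_bot]
  rw [h1]
  exact Nat.one_le_two_pow

/-! ### Characteristic 2 -/

/-- A group with trivial core and without components is of characteristic 2. -/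
theorem charTwo_of_noComp {X : Type u} [Group X] [Finite X] (hO : pPrimeCore 2 X = ⊥)
    (hn : ∀ L : Subgroup X, ¬ IsComponent L) : IsOfCharacteristicTwo X := by
  haveI : Fact (Nat.Prime 2) := ⟨Nat.prime_two⟩
  have h1 : layer X = ⊥ := by
    rw [eq_bot_iff]
    exact layer_le_iff.mpr fun L hL => absurd hL (hn L)
  have h2 : generalizedFittingSubgroup X = pCore 2 X := by
    rw [generalizedFittingSubgroup, h1, bot_sup_eq,
      SignalizersComponents.PConstrained.fittingSubgroup_eq_pCore_of_pPrimeCore_eq_bot 2 hO]
  have h3 := Cfsg.Agent.S1265.result (G := X)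
  rw [h2] at h3
  exact h3

theorem core_eq_bot {G : Type u} [Group G] {t : G} (h : centralizerPPrimeCore 2 t = ⊥) :
    pPrimeCore 2 ↥(centralizer ({t} : Set G)) = ⊥ :=
  (map_eq_bot_iff_of_injective _ (centralizer ({t} : Set G)).subtype_injective).mp h

/-- A locally balanced group of even order is of characteristic 2 type or some involution centralizer has a
component. -/
theorem exists_comp {G : Type u} [Group G] [Finite G] (he : Even (Nat.card G))
    (hbal : ∀ t : G, orderOf t = 2 → centralizerPPrimeCore 2 t = ⊥)
    (h2 : ¬ IsCharacteristicTwoType G) : ∃ (t : G) (L : Subgroup G), orderOf t = 2 ∧ CompOf t L := by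
  by_contra hcon
  apply h2
  refine Small.Generic.isCharacteristicTwoType_of_centralizers he fun t ht => ?_
  refine charTwo_of_noComp (core_eq_bot (hbal t ht)) fun L hL => ?_
  apply hcon
  refine ⟨t, L.map (centralizer ({t} : Set G)).subtype, ht, map_subtype_le L, ?_⟩
  have h3 : (L.map (centralizer ({t} : Set G)).subtype).subgroupOf (centralizer ({t} : Set G)) = L := by
    rw [subgroupOf, comap_map_eq_self_of_injective (subtype_injective _)]
  rw [h3]
  exact hL

/-! ### Components of involution centralizers -/

section Comp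

variable {G : Type u} [Group G]

theorem CompOf.quasisimple {t : G} {K : Subgroup G} (h : CompOf t K) : IsQuasisimple ↥K :=
  isQuasisimple_of_mulEquiv (subgroupOfEquivOfLe h.1) h.2.2

theorem CompOf.ne_bot {t : G} {K : Subgroup G} (h : CompOf t K) : K ≠ ⊥ := by
  rintro rfl
  haveI := quasisimple_nontrivial (CompOf.quasisimple h)
  exact not_nontrivial _ (inferInstance : Nontrivial ↥(⊥ : Subgroup G))

/-- A quasisimple group has a non-abelian central quotient. -/
theorem quo_na {K : Type u} [Group K] (h : IsQuasisimple K) : ¬ IsMulCommutative (K ⧸ center K) := by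
  intro hc
  haveI := h.2
  have h1 : commutator K ≤ center K := by
    rw [commutator_def, Subgroup.commutator_le]
    intro a _ b _
    rw [← QuotientGroup.eq_one_iff]
    have h2 := hc.is_comm.comm ((a : K) : K ⧸ center K) ((b : K) : K ⧸ center K)
    rw [commutatorElement_def, QuotientGroup.mk_mul, QuotientGroup.mk_mul, QuotientGroup.mk_mul,
      QuotientGroup.mk_inv, QuotientGroup.mk_inv, h2, mul_inv_cancel_right, mul_inv_cancel]
  rw [h.1.commutator_eq_top, top_le_iff] at h1
  exact quasisimple_center_ne_top h h1

theorem CompOf.ne_top [IsSimpleGroup G] (hna : ¬ IsMulCommutative G) {t : G} (ht : orderOf t = 2)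
    {K : Subgroup G} (h : CompOf t K) : K ≠ ⊤ := by
  rintro rfl
  have ht1 : t ≠ 1 := by
    rintro rfl
    rw [orderOf_one] at ht
    exact absurd ht (by decide)
  exact centralizer_ne_top hna ht1 (top_le_iff.mp h.1)

/-- The centre of a component of `C(t)` is a 2-group, `O(C(t)) = 1`. -/
theorem CompOf.center_isPGroup [Finite G] {t : G} (hO : centralizerPPrimeCore 2 t = ⊥) {K : Subgroup G}
    (h : CompOf t K) : IsPGroup 2 ↥(center ↥K) := by
  intro x
  obtain ⟨a, m, hm, hx⟩ := Nat.exists_eq_two_pow_mul_odd (n := orderOf x) (orderOf_pos x).ne'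
  refine ⟨a, ?_⟩
  set y := x ^ 2 ^ a with hy
  have hyo : orderOf y = m := by
    rw [hy, orderOf_pow, hx, Nat.gcd_eq_right (dvd_mul_right _ _), Nat.mul_div_cancel_left _ (by positivity)]
  -- the subgroup of `C(t)` generated by `y`
  set C := centralizer ({t} : Set G) with hC
  have hyK : ((y : ↥K) : G) ∈ K := (y : ↥K).2
  set N : Subgroup ↥C := (zpowers ((y : ↥K) : G)).subgroupOf C with hN
  have hNK : N ≤ K.subgroupOf C := by
    exact comap_mono (zpowers_le.mpr hyK)
  have hle : zpowers ((y : ↥K) : G) ≤ C := (zpowers_le.mpr hyK).trans h.1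
  have hnorm : (N.subgroupOf (K.subgroupOf C)).Normal := by
    refine ⟨fun n hn g => ?_⟩
    have hn1 : ((n : ↥C) : G) ∈ zpowers ((y : ↥K) : G) := mem_subgroupOf.mp (mem_subgroupOf.mp hn)
    have hg1 : ((g : ↥C) : G) ∈ K := mem_subgroupOf.mp g.2
    have hcomm : ((g : ↥C) : G) * ((n : ↥C) : G) * ((g : ↥C) : G)⁻¹ = ((n : ↥C) : G) := by
      obtain ⟨k, hk⟩ := mem_zpowers_iff.mp hn1
      have h1 : Commute (((g : ↥C) : G)) ((y : ↥K) : G) := by
        have h2 := mem_center_iff.mp y.2 ⟨_, hg1⟩
        exact congrArg Subtype.val h2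
      have h3 : Commute (((g : ↥C) : G)) ((n : ↥C) : G) := by
        rw [← hk]
        exact h1.zpow_right k
      rw [h3.eq, mul_inv_cancel_right]
    rw [mem_subgroupOf, mem_subgroupOf]
    have h4 : ((g * n * g⁻¹ : ↥(K.subgroupOf C)) : ↥C) = (n : ↥C) := Subtype.ext hcomm
    rw [h4]
    exact hn1
  have hsn : N.IsSubnormal := IsSubnormal.step _ _ hNK h.2.1 hnorm
  have hcard : Nat.card ↥N = m := by
    rw [Nat.card_congr (subgroupOfEquivOfLe hle).toEquiv, Nat.card_zpowers, Subgroup.orderOf_coe,
      Subgroup.orderOf_coe, hyo]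
  have hco : (Nat.card ↥N).Coprime 2 := by
    rw [hcard, Nat.coprime_two_right]
    exact hm
  have h5 := Lib.PComponents.le_pPrimeCore_of_isSubnormal hsn hco
  rw [core_eq_bot hO, le_bot_iff] at h5
  rw [h5, Subgroup.card_bot] at hcard
  rw [← orderOf_eq_one_iff, hyo, ← hcard]

/-- The standard component. -/
theorem std_of_term (C : Ctx G) {K : Subgroup G} (hK : Term G K) (hr : ¬ PRankLE 2 1 ↥K)
    (hne : ∀ g : G, K.map (MulAut.conj g).toMonoidHom ≠ K → ⁅K, K.map (MulAut.conj g).toMonoidHom⁆ ≠ ⊥) :
    Std G K := by
  haveI := C.fin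
  haveI := C.simple
  obtain ⟨t, ht, hc⟩ := hK.comp
  have hq := CompOf.quasisimple hc
  have hT := CompOf.ne_top C.na ht hc
  have hs := hq.2
  have hn := quo_na hq
  exact { hK with
          std := Cfsg.Agent.S1306.result t ht K hc.1 hc.2 hK.term hne
          ne_top := hT
          z2 := CompOf.center_isPGroup (C.bal t ht) hc
          rk2 := hr
          simple := hs
          quo_na := hn
          known := Known.known_quotient C.kproper K hT _ hs hn }

end Comp

end Cfsg.Agent.OddHalf.Soft

private theorem dce_4e4bff7d3844 : _root_.True := by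
  try have : _root_.True := by simp only [_root_.Cfsg.generalizedFittingSubgroup.eq_1]
  exact _root_.True.intro
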