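import Mathlib
import Cfsg.Prelude.Def_Classification2
import Cfsg.Prelude.Def_LieTypeChar
import Cfsg.Prelude.Def_ClassificationK
import Cfsg.Agent.Cit.Defs
import Cfsg.Agent.Lib.GenFitting
import Cfsg.Agent.SignalizersComponents.QuasisimpleQuotient
import Cfsg.Agent.FastGrp
import Cfsg.Agent.Prune
set_option linter.all false

section
prune_inst 0x7f00000000000000000000000000000000000000000000000000000000000000000000000000000000000000000000000000000000000000000000000000000000000000000000000000000000000000003fffffffffffffffffffffffffffbeffbdffffffff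

-- part: OddHalf/Stmts
section
set_option linter.all false

/-!
# Listed statements as propositions

Literal copies (in one universe) of the listed statements used by the odd half.
-/

set_option autoImplicit false
set_option linter.style.longLine false
set_option linter.unusedVariables false

namespace Cfsg.Agent.OddHalf.Stmts

open Cfsg

universe u

/-- S1309 -/
def P1309 : Prop :=
  ∀ {G : Type u} [Group G] [Finite G] (hs : IsSimpleGroup ↥(Cfsg.generalizedFittingSubgroup G)) (hna : ¬ IsMulCommutative ↥(Cfsg.generalizedFittingSubgroup G)) (z : G) (hz : orderOf z = 2) (J : Subgroup G) (hJz : J ≤ Subgroup.centralizer ({z} : Set G)) (hzJ : z ∈ J) (hsn : (J.subgroupOf (Subgroup.centralizer ({z} : Set G))).IsSubnormal) (hQ : ∃ S : Sylow 2 ↥J, ∃ n : ℕ, Nonempty (↥(S : Subgroup ↥J) ≃* QuaternionGroup (2 ^ (n + 1)))) (huniq : ∀ t ∈ J, orderOf t = 2 → t = z) (h2 : ∀ u ∈ Subgroup.centralizer ({z}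 : Set G), J.map (MulAut.conj u).toMonoidHom = J ∨ ⁅J, J.map (MulAut.conj u).toMonoidHom⁆ ≤ (Cfsg.oddCore ↥J).map J.subtype ⊓ (Cfsg.oddCore ↥(J.map (MulAut.conj u).toMonoidHom)).map (J.map (MulAut.conj u).toMonoidHom).subtype) (h3 : ∀ y ∈ J, ∀ g : G, IsPGroup 2 ↥(Subgroup.zpowers y) → 4 ≤ orderOf y → g * y * g⁻¹ ∈ Subgroup.centralizer ({z} : Set G) → g * y * g⁻¹ ∈ Subgroup.normalizer (J : Set G)),
    (∃ p : ℕ, p.Prime ∧ p ≠ 2 ∧ Cfsg.IsLieTypeChar p ↥(Cfsg.generalizedFittingSubgroup G)) ∨ Cfsg.Spor.IsoM11 ↥(Cfsg.generalizedFittingSubgroup G) ∨ Cfsg.Spor.IsoM12 ↥(Cfsg.generalizedFittingSubgroup G) ∨ (∃ (F : Type) (_ : Field F) (_ : Fintype F), Fintype.card F = 2 ∧ (Nonempty (↥(Cfsg.generalizedFittingSubgroup G) ≃* Cfsg.PSp 3 F) ∨ Nonempty (↥(Cfsg.generalizedFittingSubgroup G) ≃* Cfsg.POmega F (Cfsg.quadFormPlus 4 F))))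

/-- S1310 -/
def P1310 : Prop :=
  ∀ {G : Type u} [Group G] [Finite G] (hs : IsSimpleGroup ↥(Cfsg.generalizedFittingSubgroup G)) (hna : ¬ IsMulCommutative ↥(Cfsg.generalizedFittingSubgroup G)) (z : G) (hz : orderOf z = 2) (J : Subgroup G) (hJz : J ≤ Subgroup.centralizer ({z} : Set G)) (hzJ : z ∈ J) (hsn : (J.subgroupOf (Subgroup.centralizer ({z} : Set G))).IsSubnormal) (hJ : ((∃ (F : Type) (_ : Field F) (_ : Fintype F), Odd (Fintype.card F) ∧ Nonempty (↥J ⧸ Cfsg.oddCore ↥J ≃* Matrix.SpecialLinearGroup (Fin 2) F)) ∨ Cfsg.IsNonsplitDoubleCover (↥J ⧸ Cfsg.oddCore ↥J) ↥(alternatingGroup (Fin 7)))),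
    (∃ p : ℕ, p.Prime ∧ p ≠ 2 ∧ Cfsg.IsLieTypeChar p ↥(Cfsg.generalizedFittingSubgroup G)) ∨ Cfsg.Spor.IsoM11 ↥(Cfsg.generalizedFittingSubgroup G)

/-- S1311 -/
def P1311 : Prop :=
  ∀ {G : Type u} [Group G] [Finite G] (hs : IsSimpleGroup ↥(Cfsg.generalizedFittingSubgroup G)) (hna : ¬ IsMulCommutative ↥(Cfsg.generalizedFittingSubgroup G)) (t : G) (ht : orderOf t = 2) (hcore : Cfsg.centralizerPPrimeCore 2 t ≠ ⊥),
    (∃ p : ℕ, p.Prime ∧ p ≠ 2 ∧ Cfsg.IsLieTypeChar p ↥(Cfsg.generalizedFittingSubgroup G)) ∨ (∃ n : ℕ, Odd n ∧ 7 ≤ n ∧ Nonempty (↥(Cfsg.generalizedFittingSubgroup G) ≃* ↥(alternatingGroup (Fin n)))) ∨ (∃ (F : Type) (_ : Field F) (_ : Fintype F), Fintype.card F = 4 ∧ Nonempty (↥(Cfsg.generalizedFittingSubgroup G) ≃* Matrix.ProjectiveSpecialLinearGroup (Fin 3) F)) ∨ Cfsg.Spor.IsoHe ↥(Cfsg.generalizedFittingSubgroup G)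

/-- S1726 -/
def P1726 : Prop :=
  ∀ {X : Type u} [Group X] [Finite X],
    Cfsg.HasBProperty X

/-- S1728 -/
def P1728 : Prop :=
  ∀ {G : Type u} [Group G] [Finite G] [IsSimpleGroup G] (hG : ¬ IsMulCommutative G) (hc : Cfsg.HasProperTwoGeneratedCore G),
    (∃ (F : Type) (_ : Field F) (_ : Fintype F), 3 ≤ Fintype.card F ∧ Nonempty (G ≃* Matrix.ProjectiveSpecialLinearGroup (Fin 2) F)) ∨
      Cfsg.Lie.IsoSuzuki G ∨
      (∃ (F : Type) (_ : Field F) (_ : Fintype F) (n : ℕ), 1 ≤ n ∧ Fintype.card F = (2 ^ n) ^ 2 ∧ Nonempty (G ≃* Cfsg.PSU 3 F (2 ^ n))) ∨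
      Cfsg.Spor.IsoM11 G ∨ Cfsg.Spor.IsoJ1 G

/-- S1732 -/
def P1732 : Prop :=
  ∀ {G : Type u} [Group G] [Finite G] [IsSimpleGroup G] (hG : ¬ IsMulCommutative G) (hbal : ∀ t : G, orderOf t = 2 → Cfsg.centralizerPPrimeCore 2 t = ⊥) (hB : Cfsg.HasStrongBProperty G) (L : Subgroup G) (hL : Cfsg.IsStandardSubgroup L) {F : Type} [Field F] [Fintype F] (hF : Fintype.card F = 8) (hLX : Nonempty (↥L ≃* ↥(Cfsg.Lie.Sz F 4))),
    Cfsg.Spor.IsoRu G

/-- S1733 -/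
def P1733 : Prop :=
  ∀ {G : Type u} [Group G] [Finite G] [IsSimpleGroup G] (hG : ¬ IsMulCommutative G) (hbal : ∀ t : G, orderOf t = 2 → Cfsg.centralizerPPrimeCore 2 t = ⊥) (hB : Cfsg.HasStrongBProperty G) (L : Subgroup G) (hL : Cfsg.IsStandardSubgroup L) {F : Type} [Field F] [Fintype F] (hF : Fintype.card F = 2) (hLX : (Nat.card ↥(Subgroup.center ↥L) = 2 ∧ Nonempty (↥L ⧸ Subgroup.center ↥L ≃* Cfsg.PSp 3 F))),
    Cfsg.Spor.IsoCo3 G

/-- S1734 -/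
def P1734 : Prop :=
  ∀ {G : Type u} [Group G] [Finite G] [IsSimpleGroup G] (hG : ¬ IsMulCommutative G) (hbal : ∀ t : G, orderOf t = 2 → Cfsg.centralizerPPrimeCore 2 t = ⊥) (hB : Cfsg.HasStrongBProperty G) (L : Subgroup G) (hL : Cfsg.IsStandardSubgroup L) {F : Type} [Field F] [Fintype F] (hF : Fintype.card F = 2) {E : Type} [Field E] [Fintype E] (hE : Fintype.card E = 4) (hLX : (Nat.card ↥(Subgroup.center ↥L) = 2 ∧ Nonempty (↥L ⧸ Subgroup.center ↥L ≃* Cfsg.PSU 6 E 2)) ∨ Nonempty (↥L ≃* Cfsg.PSp 3 F) ∨ Nonempty (↥L ≃* Cfsg.POmega F (Cfsg.quadFormPlus 4 F))),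
    Cfsg.Spor.IsoFi22 G

/-- S1735 -/
def P1735 : Prop :=
  ∀ {G : Type u} [Group G] [Finite G] [IsSimpleGroup G] (hG : ¬ IsMulCommutative G) (hbal : ∀ t : G, orderOf t = 2 → Cfsg.centralizerPPrimeCore 2 t = ⊥) (hB : Cfsg.HasStrongBProperty G) (L : Subgroup G) (hL : Cfsg.IsStandardSubgroup L) (hLX : (Nat.card ↥(Subgroup.center ↥L) = 2 ∧ Nonempty (↥L ⧸ Subgroup.center ↥L ≃* Cfsg.Spor.Fi22))),
    Cfsg.Spor.IsoFi23 G ∨ Cfsg.Spor.IsoFi24' G

/-- S1736 -/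
def P1736 : Prop :=
  ∀ {G : Type u} [Group G] [Finite G] [IsSimpleGroup G] (hG : ¬ IsMulCommutative G) (hbal : ∀ t : G, orderOf t = 2 → Cfsg.centralizerPPrimeCore 2 t = ⊥) (hB : Cfsg.HasStrongBProperty G) (L : Subgroup G) (hL : Cfsg.IsStandardSubgroup L) {F : Type} [Field F] [Fintype F] (hF : Fintype.card F = 2) {K : Type} [Field K] [Fintype K] (hK : Fintype.card K = 4) (hLX : (Nat.card ↥(Subgroup.center ↥L) = 2 ∧ Nonempty (↥L ⧸ Subgroup.center ↥L ≃* ↥(Cfsg.Lie.twistedE6 K 2))) ∨ Nonempty (↥L ≃* ↥(Cfsg.Lie.chevF4.group F))),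
    Cfsg.Spor.IsoB G

/-- S1737 -/
def P1737 : Prop :=
  ∀ {G : Type u} [Group G] [Finite G] [IsSimpleGroup G] (hG : ¬ IsMulCommutative G) (hbal : ∀ t : G, orderOf t = 2 → Cfsg.centralizerPPrimeCore 2 t = ⊥) (hB : Cfsg.HasStrongBProperty G) (L : Subgroup G) (hL : Cfsg.IsStandardSubgroup L) (hLX : (Nat.card ↥(Subgroup.center ↥L) = 2 ∧ Nonempty (↥L ⧸ Subgroup.center ↥L ≃* Cfsg.Spor.BabyMonster))),
    Cfsg.Spor.IsoM G

/-- S1738 -/
def P1738 : Prop :=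
  ∀ {G : Type u} [Group G] [Finite G] (hO : Cfsg.oddCore G = ⊥) (hF : Cfsg.IsQuasisimple ↥(Cfsg.generalizedFittingSubgroup G)) (t : G) (ht : orderOf t = 2) (K : Subgroup ↥(Subgroup.centralizer ({t} : Set G))) (hK : Cfsg.IsPComponent 2 K) (htK : t ∈ K.map (Subgroup.centralizer ({t} : Set G)).subtype) (n : ℕ) (hn : 8 ≤ n) (hKA : Cfsg.IsNonsplitDoubleCover (↥K ⧸ Cfsg.oddCore ↥K) ↥(alternatingGroup (Fin n))),
    Cfsg.IsNonsplitDoubleCover ↥(Cfsg.generalizedFittingSubgroup G) ↥(alternatingGroup (Fin n)) ∨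
      (n = 8 ∧ Cfsg.Spor.IsoMcL ↥(Cfsg.generalizedFittingSubgroup G)) ∨
      (n = 11 ∧ Cfsg.Spor.IsoLy ↥(Cfsg.generalizedFittingSubgroup G))

/-- S1739 -/
def P1739 : Prop :=
  ∀ {G : Type u} [Group G] [Finite G] (hO : Cfsg.oddCore G = ⊥) (hF : Cfsg.IsQuasisimple ↥(Cfsg.generalizedFittingSubgroup G)) (t : G) (ht : orderOf t = 2) (K : Subgroup ↥(Subgroup.centralizer ({t} : Set G))) (hK : Cfsg.IsPComponent 2 K),
    ¬ Cfsg.Spor.IsoMcL (↥K ⧸ Cfsg.oddCore ↥K) ∧ ¬ Cfsg.Spor.IsoLy (↥K ⧸ Cfsg.oddCore ↥K)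

/-- S1747 -/
def P1747 : Prop :=
  ∀ {G : Type u} [Group G] [Finite G] [IsSimpleGroup G] (hG : ¬ IsMulCommutative G) (hB : Cfsg.HasStrongBProperty G) (L : Subgroup G) (hL : Cfsg.IsStandardSubgroup L) {F : Type} [Field F] [Fintype F] (hF : Fintype.card F = 4) (hLX : IsKleinFour ↥(Subgroup.center ↥L) ∧ Nonempty (↥L ⧸ Subgroup.center ↥L ≃* Matrix.ProjectiveSpecialLinearGroup (Fin 3) F)),
    Cfsg.IsLieTypeChar 3 G ∨ (∃ n : ℕ, 9 ≤ n ∧ Nonempty (G ≃* ↥(alternatingGroup (Fin n)))) ∨ Cfsg.Spor.IsoHe G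

/-- S1748 -/
def P1748 : Prop :=
  ∀ {G : Type u} [Group G] [Finite G] [IsSimpleGroup G] (hG : ¬ IsMulCommutative G) (hB : Cfsg.HasStrongBProperty G) (L : Subgroup G) (hL : Cfsg.IsStandardSubgroup L) {F : Type} [Field F] [Fintype F] (hF : Fintype.card F = 4) (hLX : Nonempty (↥L ≃* Matrix.ProjectiveSpecialLinearGroup (Fin 3) F)),
    Cfsg.IsLieTypeChar 3 G ∨ (∃ n : ℕ, 9 ≤ n ∧ Nonempty (G ≃* ↥(alternatingGroup (Fin n)))) ∨ Cfsg.Spor.IsoSuz G

/-- S1749 -/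
def P1749 : Prop :=
  ∀ {G : Type u} [Group G] [Finite G] [IsSimpleGroup G] (hG : ¬ IsMulCommutative G) (hB : Cfsg.HasStrongBProperty G) (L : Subgroup G) (hL : Cfsg.IsStandardSubgroup L) {F : Type} [Field F] [Fintype F] (hF : Fintype.card F = 4) (hLX : IsCyclic ↥(Subgroup.center ↥L) ∧ Nat.card ↥(Subgroup.center ↥L) = 4 ∧ Nonempty (↥L ⧸ Subgroup.center ↥L ≃* Matrix.ProjectiveSpecialLinearGroup (Fin 3) F)),
    Cfsg.IsLieTypeChar 3 G ∨ (∃ n : ℕ, 9 ≤ n ∧ Nonempty (G ≃* ↥(alternatingGroup (Fin n)))) ∨ Cfsg.Spor.IsoON G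

/-- S1750 -/
def P1750 : Prop :=
  ∀ {G : Type u} [Group G] [Finite G] [IsSimpleGroup G] (hG : ¬ IsMulCommutative G) (hB : Cfsg.HasStrongBProperty G) (L : Subgroup G) (hL : Cfsg.IsStandardSubgroup L) (hLX : Nonempty (↥L ≃* ↥Cfsg.Spor.M12)),
    Cfsg.IsLieTypeChar 3 G ∨ (∃ n : ℕ, 9 ≤ n ∧ Nonempty (G ≃* ↥(alternatingGroup (Fin n)))) ∨ Cfsg.Spor.IsoCo3 G

/-- S1751 -/
def P1751 : Prop :=
  ∀ {G : Type u} [Group G] [Finite G] [IsSimpleGroup G] (hG : ¬ IsMulCommutative G) (hB : Cfsg.HasStrongBProperty G) (L : Subgroup G) (hL : Cfsg.IsStandardSubgroup L) {F : Type} [Field F] [Fintype F] (hF : Fintype.card F = 4) (hLX : Nonempty (↥L ≃* ↥(Cfsg.Lie.chevG2.group F))),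
    Cfsg.IsLieTypeChar 3 G ∨ (∃ n : ℕ, 9 ≤ n ∧ Nonempty (G ≃* ↥(alternatingGroup (Fin n)))) ∨ Cfsg.Spor.IsoCo1 G

/-- S1752 -/
def P1752 : Prop :=
  ∀ {G : Type u} [Group G] [Finite G] [IsSimpleGroup G] (hG : ¬ IsMulCommutative G) (hB : Cfsg.HasStrongBProperty G) (L : Subgroup G) (hL : Cfsg.IsStandardSubgroup L) (hLX : Nat.card ↥(Subgroup.center ↥L) = 2 ∧ Nonempty (↥L ⧸ Subgroup.center ↥L ≃* ↥Cfsg.Spor.HS)),
    Cfsg.IsLieTypeChar 3 G ∨ (∃ n : ℕ, 9 ≤ n ∧ Nonempty (G ≃* ↥(alternatingGroup (Fin n)))) ∨ Cfsg.Spor.IsoHN G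

/-- S1766 -/
def P1766 : Prop :=
  ∀ {G : Type u} [Group G] [Finite G] (hO : Cfsg.oddCore G = ⊥) (hB : Cfsg.HasStrongBProperty G) (A : Subgroup G) (hA : Cfsg.IsStandardSubgroup A) (n : ℕ) (hn : 5 ≤ n) (hAX : Nonempty (↥A ≃* ↥(alternatingGroup (Fin n)))) (hR : ¬ Cfsg.PRankLE 2 1 ↥(Subgroup.centralizer (A : Set G))),
    A.Normal ∨ Nonempty (↥(Subgroup.normalClosure (A : Set G)) ≃* ↥(alternatingGroup (Fin (n + 4)))) ∨
      (n = 5 ∧ (Cfsg.Spor.IsoM12 ↥(Subgroup.normalClosure (A : Set G)) ∨ Cfsg.Spor.IsoJ2 ↥(Subgroup.normalClosure (A : Set G))))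

/-- S1771 -/
def P1771 : Prop :=
  ∀ {G : Type u} [Group G] [Finite G] (hO : Cfsg.oddCore G = ⊥) (hB : Cfsg.HasStrongBProperty G) (A : Subgroup G) (hA : Cfsg.IsStandardSubgroup A) (hnA : ¬ A.Normal) (hR : ∀ R : Sylow 2 ↥(Subgroup.centralizer (A : Set G)), IsCyclic ↥(R : Subgroup ↥(Subgroup.centralizer (A : Set G)))) (t : G) (ht : orderOf t = 2) (htA : t ∈ Subgroup.centralizer (A : Set G)) {F : Type} [Field F] [Fintype F] (a : ℕ) (ha : 2 ≤ a) (hF : Fintype.card F = 4 ^ a) (hAX : Nonempty (↥A ⧸ Subgroup.center ↥A ≃* Cfsg.PSU 3 F (2 ^ a))),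
    Nonempty (↥(Cfsg.layer G) ≃* ↥A × ↥A) ∨ ((Cfsg.IsLieTypeChar 2 ↥(Cfsg.layer G) ∨ Cfsg.Lie.IsoTits ↥(Cfsg.layer G)) ∧ ¬ (∃ e : G, e ∈ Cfsg.layer G ∧ ∀ x ∈ Cfsg.layer G, t * x * t⁻¹ = e * x * e⁻¹))

/-- S1772 -/
def P1772 : Prop :=
  ∀ {G : Type u} [Group G] [Finite G] (hO : Cfsg.oddCore G = ⊥) (hB : Cfsg.HasStrongBProperty G) (A : Subgroup G) (hA : Cfsg.IsStandardSubgroup A) (hnA : ¬ A.Normal) (hR : ∀ R : Sylow 2 ↥(Subgroup.centralizer (A : Set G)), IsCyclic ↥(R : Subgroup ↥(Subgroup.centralizer (A : Set G)))) (t : G) (ht : orderOf t = 2) (htA : t ∈ Subgroup.centralizer (A : Set G)) {F : Type} [Field F] [Fintype F] (m : ℕ) (hm : 1 ≤ m) (hF : Fintype.card F = 2 ^ (2 * m + 1)) (hAX : Nonempty (↥A ⧸ Subgroup.center ↥A ≃* ↥(Cfsg.Lie.Sz F (2 ^ (m + 1))))),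
    Nonempty (↥(Cfsg.layer G) ≃* ↥A × ↥A) ∨ ((Cfsg.IsLieTypeChar 2 ↥(Cfsg.layer G) ∨ Cfsg.Lie.IsoTits ↥(Cfsg.layer G)) ∧ ¬ (∃ e : G, e ∈ Cfsg.layer G ∧ ∀ x ∈ Cfsg.layer G, t * x * t⁻¹ = e * x * e⁻¹)) ∨
      (Nonempty (↥A ≃* ↥(Cfsg.Lie.Sz F 4)) ∧ Fintype.card F = 8 ∧ Cfsg.Spor.IsoRu ↥(Cfsg.layer G))

/-- S1773 -/
def P1773 : Prop :=
  ∀ {G : Type u} [Group G] [Finite G] (hO : Cfsg.oddCore G = ⊥) (hB : Cfsg.HasStrongBProperty G) (A : Subgroup G) (hA : Cfsg.IsStandardSubgroup A) (hnA : ¬ A.Normal) (hR : ∀ R : Sylow 2 ↥(Subgroup.centralizer (A : Set G)), IsCyclic ↥(R : Subgroup ↥(Subgroup.centralizer (A : Set G)))) (t : G) (ht : orderOf t = 2) (htA : t ∈ Subgroup.centralizer (A : Set G)) {F : Type} [Field F] [Fintype F] (a : ℕ) (ha : 2 ≤ a) (hF : Fintype.card F = 2 ^ a) (hAX : Nonempty (↥A ⧸ Subgroup.center ↥A ≃* Matrix.ProjectiveSpecialLinearGroup (Fin 2) F)),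
    Nonempty (↥(Cfsg.layer G) ≃* ↥A × ↥A) ∨ ((Cfsg.IsLieTypeChar 2 ↥(Cfsg.layer G) ∨ Cfsg.Lie.IsoTits ↥(Cfsg.layer G)) ∧ ¬ (∃ e : G, e ∈ Cfsg.layer G ∧ ∀ x ∈ Cfsg.layer G, t * x * t⁻¹ = e * x * e⁻¹)) ∨
      (a = 2 ∧ (Cfsg.Spor.IsoM12 ↥(Cfsg.layer G) ∨ Nonempty (↥(Cfsg.layer G) ≃* ↥(alternatingGroup (Fin 9))) ∨ Cfsg.Spor.IsoJ1 ↥(Cfsg.layer G) ∨
        Cfsg.Spor.IsoJ2 ↥(Cfsg.layer G) ∨ Nonempty (↥(Cfsg.layer G) ≃* ↥(alternatingGroup (Fin 7))) ∨
        (∃ (E : Type) (_ : Field E) (_ : Fintype E), Fintype.card E = 25 ∧ (Nonempty (↥(Cfsg.layer G) ≃* Matrix.ProjectiveSpecialLinearGroup (Fin 2) E) ∨ Nonempty (↥(Cfsg.layer G) ≃* Cfsg.PSU 3 E 5))) ∨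
        (∃ (E : Type) (_ : Field E) (_ : Fintype E), Fintype.card E = 5 ∧ (Nonempty (↥(Cfsg.layer G) ≃* Matrix.ProjectiveSpecialLinearGroup (Fin 3) E) ∨ Nonempty (↥(Cfsg.layer G) ≃* ↥(Cfsg.Lie.chevG2.group E)))) ∨
        (∃ (K : Type) (_ : Field K) (_ : Fintype K), Fintype.card K = 125 ∧ Nonempty (↥(Cfsg.layer G) ≃* ↥(Cfsg.Lie.twistedD4 K 5))))) ∨
      (Nonempty (↥A ≃* Matrix.ProjectiveSpecialLinearGroup (Fin 2) F) ∧ Fintype.card F = 8 ∧
        ∃ (E : Type) (_ : Field E) (_ : Fintype E), Fintype.card E = 3 ∧ Nonempty (↥(Cfsg.layer G) ≃* ↥(Cfsg.Lie.chevG2.group E)))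

/-- S1778 -/
def P1778 : Prop :=
  ∀ {G : Type u} [Group G] [Finite G] (hO : Cfsg.oddCore G = ⊥) (hB : Cfsg.HasStrongBProperty G) (A : Subgroup G) (hA : Cfsg.IsStandardSubgroup A) (hnA : ¬ A.Normal) (hZ : Odd (Nat.card ↥(Subgroup.center ↥A))) (hR : ∀ R : Sylow 2 ↥(Subgroup.centralizer (A : Set G)), IsCyclic ↥(R : Subgroup ↥(Subgroup.centralizer (A : Set G)))) (t : G) (ht : orderOf t = 2) (htA : t ∈ Subgroup.centralizer (A : Set G)) (hAX : (∃ (F : Type) (_ : Field F) (_ : Fintype F) (a : ℕ), 2 ≤ a ∧ Fintype.card F = 2 ^ a ∧ (Nonempty (↥A ⧸ Subgroup.center ↥A ≃* Matrix.ProjectiveSpecialLinearGroup (Fin 3) F) ∨ Nonempty (↥A ⧸ Subgroup.center ↥A ≃* Cfsg.PSp 2 F) ∨ Nonempty (↥A ⧸ Subgroup.center ↥A ≃* ↥(Cfsg.Lie.chevG2.group F)))) ∨ (∃ (F : Type) (_ : Field F) (_ : Fintype F) (a : ℕ), 2 ≤ a ∧ Fintype.card F = 4 ^ a ∧ (Nonempty (↥A ⧸ Subgroup.center ↥A ≃* Cfsg.PSU 4 F (2 ^ a)) ∨ Nonempty (↥A ⧸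 Subgroup.center ↥A ≃* Cfsg.PSU 5 F (2 ^ a)))) ∨ (∃ (F : Type) (_ : Field F) (_ : Fintype F), Fintype.card F = 4 ∧ Nonempty (↥A ⧸ Subgroup.center ↥A ≃* Cfsg.PSU 5 F 2)) ∨ (∃ (K : Type) (_ : Field K) (_ : Fintype K) (a : ℕ), 1 ≤ a ∧ Fintype.card K = 8 ^ a ∧ Nonempty (↥A ⧸ Subgroup.center ↥A ≃* ↥(Cfsg.Lie.twistedD4 K (2 ^ a))))),
    Nonempty (↥(Cfsg.layer G) ≃* ↥A × ↥A) ∨ ((Cfsg.IsLieTypeChar 2 ↥(Cfsg.layer G) ∨ Cfsg.Lie.IsoTits ↥(Cfsg.layer G)) ∧ ¬ (∃ e : G, e ∈ Cfsg.layer G ∧ ∀ x ∈ Cfsg.layer G, t * x * t⁻¹ = e * x * e⁻¹))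

end Cfsg.Agent.OddHalf.Stmts
end

-- part: Cit/PieceEnd
section
set_option linter.all false
open scoped Cfsg.Agent.FastGrp

/-!
# End of S1310: `F*(G)` simple and a normal central product (group theory)

* `centralizer_fstar`, `fstar_le_of_normal` : `F*(G)` non-abelian simple;
* `odd_core_eq_bot` ;
* `exists_piece` : a non-trivial normal subgroup which is a central product of normal pieces has one piece;
* `eq_fstar_of_quasisimple` : if the piece is quasisimple it is `F*(G)`;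
* `not_le_centralizer` : it is not contained in the centraliser of one of its non-trivial elements.
-/

set_option autoImplicit false

namespace Cfsg.Agent.Cit.PieceEnd

open Subgroup Cfsg

variable {G : Type*} [Group G] [Finite G]

theorem centralizer_fstar (hs : IsSimpleGroup ↥(generalizedFittingSubgroup G))
    (hna : ¬ IsMulCommutative ↥(generalizedFittingSubgroup G)) :
    centralizer (generalizedFittingSubgroup G : Set G) = ⊥ := by
  have h1 := Lib.GenFitting.centralizer_genFitting_le (G := G)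
  have h2 : (centralizer (generalizedFittingSubgroup G : Set G)).subgroupOf
      (generalizedFittingSubgroup G) ≤ center ↥(generalizedFittingSubgroup G) := by
    intro x hx
    rw [mem_center_iff]
    intro y
    exact Subtype.ext (mem_centralizer_iff.1 hx (y : G) y.2)
  have h3 : center ↥(generalizedFittingSubgroup G) = ⊥ := by
    rcases hs.eq_bot_or_eq_top_of_normal (center ↥(generalizedFittingSubgroup G)) inferInstance
      with h | h
    · exact h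
    · exact absurd ⟨⟨fun x y => (mem_center_iff.1 (h.symm ▸ mem_top x) y).symm ▸ rfl⟩⟩ hna
  rw [h3, le_bot_iff] at h2
  rw [Subgroup.eq_bot_iff_forall]
  intro x hx
  have h4 : (⟨x, h1 hx⟩ : ↥(generalizedFittingSubgroup G)) ∈
      (centralizer (generalizedFittingSubgroup G : Set G)).subgroupOf
        (generalizedFittingSubgroup G) := hx
  rw [h2, mem_bot] at h4
  exact congrArg Subtype.val h4

/-- a subgroup normalised by `F*(G)` is trivial or contains `F*(G)` if it is normal in a subgroup that contains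
`F*(G)`; form with normalisers -/
theorem fstar_le_of_normalized (hs : IsSimpleGroup ↥(generalizedFittingSubgroup G))
    (hna : ¬ IsMulCommutative ↥(generalizedFittingSubgroup G)) {N : Subgroup G}
    (hN : generalizedFittingSubgroup G ≤ normalizer (N : Set G)) (hne : N ≠ ⊥) :
    generalizedFittingSubgroup G ≤ N := by
  have := Lib.GenFitting.genFitting_normal (G := G)
  have h1 : (N.subgroupOf (generalizedFittingSubgroup G)).Normal := by
    refine ⟨fun x hx g => ?_⟩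
    exact (mem_normalizer_iff.1 (hN g.2) _).1 hx
  rcases hs.eq_bot_or_eq_top_of_normal _ h1 with h | h
  · exfalso
    apply hne
    rw [eq_bot_iff, ← centralizer_fstar hs hna]
    intro x hx
    rw [mem_centralizer_iff]
    intro y hy
    have h2 : y * x * y⁻¹ * x⁻¹ ∈ N :=
      mul_mem ((mem_normalizer_iff.1 (hN hy) _).1 hx) (inv_mem hx)
    have h3 : y * x * y⁻¹ * x⁻¹ ∈ generalizedFittingSubgroup G := by
      have : y * x * y⁻¹ * x⁻¹ = y * (x * y⁻¹ * x⁻¹) := by group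
      rw [this]
      exact mul_mem hy (Lib.GenFitting.genFitting_normal.conj_mem _ (inv_mem hy) x)
    have h4 : (⟨_, h3⟩ : ↥(generalizedFittingSubgroup G)) ∈
        N.subgroupOf (generalizedFittingSubgroup G) := h2
    rw [h, mem_bot] at h4
    have h5 : y * x * y⁻¹ * x⁻¹ = 1 := congrArg Subtype.val h4
    have h6 : y * x = x * y := by
      calc y * x = (y * x * y⁻¹ * x⁻¹) * (x * y) := by group
        _ = x * y := by rw [h5, one_mul]
    exact h6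
  · exact Subgroup.subgroupOf_eq_top.1 h

theorem fstar_le_of_normal (hs : IsSimpleGroup ↥(generalizedFittingSubgroup G))
    (hna : ¬ IsMulCommutative ↥(generalizedFittingSubgroup G)) {N : Subgroup G} [hN : N.Normal]
    (hne : N ≠ ⊥) : generalizedFittingSubgroup G ≤ N :=
  fstar_le_of_normalized hs hna (by rw [normalizer_eq_top]; exact le_top) hne

/-- the pieces -/
theorem exists_piece (hs : IsSimpleGroup ↥(generalizedFittingSubgroup G))
    (hna : ¬ IsMulCommutative ↥(generalizedFittingSubgroup G)) {X : Subgroup G} [hX : X.Normal]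
    (hne : X ≠ ⊥) (P : Set (Subgroup G)) (hP : sSup P = X)
    (hn : ∀ D ∈ P, X ≤ normalizer (D : Set G)) (h1 : ∀ D ∈ P, D ≠ ⊥)
    (hc : ∀ D ∈ P, ∀ E ∈ P, D ≠ E → ∀ x ∈ D, ∀ y ∈ E, x * y = y * x) : P = {X} := by
  have hF : generalizedFittingSubgroup G ≤ X := fstar_le_of_normal hs hna hne
  have hFD : ∀ D ∈ P, generalizedFittingSubgroup G ≤ D := fun D hD =>
    fstar_le_of_normalized hs hna (hF.trans (hn D hD)) (h1 D hD)
  have huniq : ∀ D ∈ P, ∀ E ∈ P, D = E := by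
    intro D hD E hE
    by_contra hDE
    apply hna
    exact ⟨⟨fun x y => Subtype.ext (hc D hD E hE hDE x (hFD D hD x.2) y (hFD E hE y.2))⟩⟩
  have hPne : P.Nonempty := by
    rw [Set.nonempty_iff_ne_empty]
    rintro rfl
    apply hne
    rw [← hP, sSup_empty]
  obtain ⟨D, hD⟩ := hPne
  have h2 : P = {D} := Set.eq_singleton_iff_unique_mem.2 ⟨hD, fun E hE => huniq E hE D hD⟩
  rw [h2, sSup_singleton] at hP
  rw [h2, hP]

/-- a normal quasisimple subgroup is `F*(G)` -/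
theorem eq_fstar_of_quasisimple (hs : IsSimpleGroup ↥(generalizedFittingSubgroup G))
    (hna : ¬ IsMulCommutative ↥(generalizedFittingSubgroup G)) {X : Subgroup G} [hX : X.Normal]
    (hq : IsQuasisimple ↥X) : X = generalizedFittingSubgroup G := by
  have hne : X ≠ ⊥ := by
    rintro rfl
    have := SignalizersComponents.Components.quasisimple_nontrivial hq
    exact (not_nontrivial_iff_subsingleton.2 inferInstance) this
  exact le_antisymm (Lib.GenFitting.component_le_genFitting ⟨Normal.isSubnormal hX, hq⟩)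
    (fstar_le_of_normal hs hna hne)

/-- a non-trivial normal subgroup does not centralise a non-trivial element -/
theorem not_le_centralizer (hs : IsSimpleGroup ↥(generalizedFittingSubgroup G))
    (hna : ¬ IsMulCommutative ↥(generalizedFittingSubgroup G)) {X : Subgroup G} [hX : X.Normal]
    (hne : X ≠ ⊥) {z : G} (hz : z ≠ 1) : ¬ X ≤ centralizer {z} := by
  intro h
  have hF : generalizedFittingSubgroup G ≤ X := fstar_le_of_normal hs hna hne
  have h1 : z ∈ centralizer (generalizedFittingSubgroup G : Set G) := by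
    rw [mem_centralizer_iff]
    intro y hy
    exact mem_centralizer_singleton_iff.1 (h (hF hy))
  rw [centralizer_fstar hs hna, mem_bot] at h1
  exact hz h1

/-- a normal simple subgroup is `F*(G)` -/
theorem eq_fstar_of_simple (hs : IsSimpleGroup ↥(generalizedFittingSubgroup G))
    (hna : ¬ IsMulCommutative ↥(generalizedFittingSubgroup G)) {X : Subgroup G} [hX : X.Normal]
    (hq : IsSimpleGroup ↥X) : X = generalizedFittingSubgroup G := by
  have hne : X ≠ ⊥ := by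
    rintro rfl
    have := hq.toNontrivial
    exact (not_nontrivial_iff_subsingleton.2 inferInstance) this
  have hF : generalizedFittingSubgroup G ≤ X := fstar_le_of_normal hs hna hne
  have := Lib.GenFitting.genFitting_normal (G := G)
  have h1 : ((generalizedFittingSubgroup G).subgroupOf X).Normal := inferInstance
  rcases hq.eq_bot_or_eq_top_of_normal _ h1 with h | h
  · exfalso
    rw [Subgroup.subgroupOf_eq_bot, disjoint_iff, inf_eq_left.2 hF] at h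
    have h2 := hs.toNontrivial
    rw [h] at h2
    exact (not_nontrivial_iff_subsingleton.2 inferInstance) h2
  · exact le_antisymm (Subgroup.subgroupOf_eq_top.1 h) hF

/-- a normal subgroup of odd order is trivial as soon as `G` has no non-abelian simple subgroup of odd order -/
theorem eq_bot_of_odd (hs : IsSimpleGroup ↥(generalizedFittingSubgroup G))
    (hna : ¬ IsMulCommutative ↥(generalizedFittingSubgroup G))
    (hev : 2 ∣ Nat.card ↥(generalizedFittingSubgroup G)) {X : Subgroup G} [hX : X.Normal]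
    (ho : ¬ 2 ∣ Nat.card ↥X) : X = ⊥ := by
  by_contra hne
  exact ho (hev.trans (card_dvd_of_le (fstar_le_of_normal hs hna hne)))

end Cfsg.Agent.Cit.PieceEnd
end
end
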