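import Cfsg.Agent.TwoFusion.QuatCoverSL
import Cfsg.Agent.TwoFusion.QuatQuotient
import Cfsg.Agent.TwoFusion.IsolatedCenter
import Cfsg.Agent.SignalizersComponents.QsBasic
import Cfsg.Agent.SignalizersComponents.QsRankOne
import Cfsg.Agent.Lib.PComponents
import Cfsg.Agent.Fischer.Centralizer
import Cfsg.Agent.OddHalf.Iface
import Cfsg.Agent.FastGrp
import Cfsg.Agent.Prune
set_option linter.all false
prune_inst 0x7f00000000000000000000000000000000000000000000000000000000000000000000000000000000000000000000000000000000000000000000000000000000000000000000000000000000000000003fffffffffffffffffffffffffffbeffbdffffffff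
open scoped Cfsg.Agent.FastGrp

/-!
# Components of 2-rank one (node D1rank1 of the odd half)

`rank_one`: a finite quasisimple group `K` of 2-rank 1 with `O(K) = 1` is `SL(2,q)`, `q > 3` odd, or a
non-split double cover of the alternating group of degree 7 (given the Gorenstein-Walter theorem S0483).
`d1rank1`: the node `D1rank1`.
-/

set_option autoImplicit false

namespace Cfsg.Agent.OddHalf.RankOne

open Subgroup Cfsg
open Cfsg.Agent.TwoFusion

universe u

/-- the statement of S0483 -/
def GW : Prop := ∀ (X : Type u) [Group X] [Finite X] [Group.IsPerfect X]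
      (S : Sylow 2 X) (n : ℕ), 2 ≤ n → Nonempty ((S : Subgroup X) ≃* DihedralGroup n) →
      (∃ (F : Type) (_ : Field F) (_ : Fintype F), Odd (Fintype.card F) ∧ 3 < Fintype.card F ∧
        Nonempty (X ⧸ Cfsg.oddCore X ≃* Matrix.ProjectiveSpecialLinearGroup (Fin 2) F)) ∨
      Nonempty (X ⧸ Cfsg.oddCore X ≃* alternatingGroup (Fin 7))

theorem even_of_oddCore {K : Type*} [Group K] [Finite K] [Nontrivial K] (hO : oddCore K = ⊥) :
    Even (Nat.card K) := by
  by_contra hodd
  rw [Nat.not_even_iff_odd] at hodd
  have h1 : (⊤ : Subgroup K) ≤ oddCore K :=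
    Lib.Cores.le_pPrimeCore inferInstance (by
      rw [Subgroup.card_top]
      exact (Nat.coprime_two_left.mpr hodd).symm)
  rw [hO] at h1
  exact bot_ne_top (le_antisymm bot_le h1 ▸ rfl : (⊥ : Subgroup K) = ⊤)

theorem nontrivial_of_quasisimple {K : Type*} [Group K] (h : IsQuasisimple K) : Nontrivial K := by
  have h1 : Nontrivial (K ⧸ center K) := h.2.toNontrivial
  by_contra hn
  rw [not_nontrivial_iff_subsingleton] at hn
  have h2 : Subsingleton (K ⧸ center K) := by infer_instance
  exact not_subsingleton _ h2

/-- A quasisimple group of 2-rank one with trivial odd core. -/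
theorem rank_one (hGW : GW.{u}) {K : Type u} [Group K] [Finite K] (hq : IsQuasisimple K)
    (hO : oddCore K = ⊥) (hrk : PRankLE 2 1 K) :
    ∃ z ∈ center K, orderOf z = 2 ∧
      ((∃ (F : Type) (_ : Field F) (_ : Fintype F), Odd (Fintype.card F) ∧ 3 < Fintype.card F ∧
        Nonempty (K ≃* Matrix.SpecialLinearGroup (Fin 2) F)) ∨
      IsNonsplitDoubleCover K ↥(alternatingGroup (Fin 7))) := by
  have hnt := nontrivial_of_quasisimple hq
  have hperf : Group.IsPerfect K := hq.1
  obtain ⟨⟨z, hzc, hz2⟩, S, n, ⟨e⟩⟩ :=
    SignalizersComponents.QsRankOne.exists_central_involution hq (even_of_oddCore hO) hrk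
  have hn : (zpowers z).Normal := IsolatedCenter.normal_of_le_center (by rw [zpowers_le]; exact hzc)
  have hperfX : Group.IsPerfect (K ⧸ zpowers z) := by
    refine ⟨?_⟩
    have h1 : (commutator K).map (QuotientGroup.mk' (zpowers z)) = commutator (K ⧸ zpowers z) := by
      rw [commutator_def, commutator_def, Subgroup.map_commutator,
        Subgroup.map_top_of_surjective _ (QuotientGroup.mk'_surjective _)]
    rw [← h1, hperf.1, Subgroup.map_top_of_surjective _ (QuotientGroup.mk'_surjective _)]
  have hOX := QuatQuotient.oddCore_quotient_eq_bot hO z hzc hz2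
  have e2 : (K ⧸ zpowers z) ⧸ Cfsg.oddCore (K ⧸ zpowers z) ≃* K ⧸ zpowers z :=
    (QuotientGroup.quotientMulEquivOfEq hOX).trans QuotientGroup.quotientBot
  refine ⟨z, hzc, hz2, ?_⟩
  rcases hGW (K ⧸ zpowers z) (S.mapSurjective (QuotientGroup.mk'_surjective (zpowers z))) (2 ^ (n + 1))
    (by
      calc 2 = 2 ^ 1 := by norm_num
        _ ≤ 2 ^ (n + 1) := Nat.pow_le_pow_right (by norm_num) (by omega))
    (QuatQuotient.sylow_quotient z hz2 S (n + 1) e) with ⟨F, hF1, hF2, hodd, hcard, ⟨θ⟩⟩ | hA7
  · exact Or.inl ⟨F, hF1, hF2, hodd, hcard,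
      QuatCoverSL.mulEquiv_sl_two z hzc hz2 S (n + 1) (by omega) e hodd (e2.symm.trans θ)⟩
  · right
    obtain ⟨θ⟩ := hA7
    have θ' : K ⧸ zpowers z ≃* alternatingGroup (Fin 7) := e2.symm.trans θ
    have hsimp : IsSimpleGroup (K ⧸ zpowers z) := by
      have h7 : IsSimpleGroup (alternatingGroup (Fin 7)) := alternatingGroup.isSimpleGroup (by simp)
      have : Nontrivial (K ⧸ zpowers z) := θ'.toEquiv.nontrivial
      exact IsSimpleGroup.isSimpleGroup_of_surjective θ'.symm.toMonoidHom θ'.symm.surjective
    have hcen : center K = zpowers z := by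
      refine le_antisymm ?_ (by rw [zpowers_le]; exact hzc)
      have h1 : ((center K).map (QuotientGroup.mk' (zpowers z))).Normal :=
        Subgroup.Normal.map inferInstance _ (QuotientGroup.mk'_surjective _)
      rcases hsimp.eq_bot_or_eq_top_of_normal _ h1 with h2 | h2
      · intro x hx
        have h3 : QuotientGroup.mk' (zpowers z) x ∈ (center K).map (QuotientGroup.mk' (zpowers z)) :=
          mem_map_of_mem _ hx
        rw [h2, mem_bot] at h3
        exact (QuotientGroup.eq_one_iff x).1 h3
      · exfalso
        have h3 : center K = ⊤ := by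
          have h4 : (center K) ⊔ zpowers z = ⊤ := by
            have h5 := congrArg (Subgroup.comap (QuotientGroup.mk' (zpowers z))) h2
            rw [Subgroup.comap_map_eq, QuotientGroup.ker_mk', Subgroup.comap_top] at h5
            exact h5
          rwa [sup_eq_left.2 (by rw [zpowers_le]; exact hzc)] at h4
        have h6 : Subsingleton (K ⧸ center K) := by
          rw [h3]
          exact QuotientGroup.subsingleton_quotient_top
        have h7 : Nontrivial (K ⧸ center K) := hq.2.toNontrivial
        exact not_subsingleton _ h6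
    refine ⟨?_, ?_, ?_⟩
    · rw [hcen, Nat.card_zpowers, hz2]
    · exact ⟨(QuotientGroup.quotientMulEquivOfEq hcen).trans θ'⟩
    · intro L hL
      have hidx : L.index = 2 := by
        have h1 := hL.index_eq_card
        rw [hcen, Nat.card_zpowers, hz2] at h1
        exact h1
      have hLn : L.Normal := Subgroup.normal_of_index_eq_two hidx
      have h3 : commutator K ≤ L := by
        have hc : Nat.card (K ⧸ L) = 2 := hidx
        have hcyc : IsCyclic (K ⧸ L) := isCyclic_of_prime_card hc
        have h4 : ∀ a b : K ⧸ L, a * b = b * a := by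
          intro a b
          obtain ⟨g, hg⟩ := hcyc.exists_generator
          obtain ⟨i, rfl⟩ := hg a
          obtain ⟨j, rfl⟩ := hg b
          exact ((Commute.refl g).zpow_zpow i j)
        rw [_root_.commutator_def, Subgroup.commutator_le]
        intro a _ b _
        rw [← QuotientGroup.eq_one_iff]
        have := h4 (a : K ⧸ L) (b : K ⧸ L)
        rw [commutatorElement_def]
        simp only [QuotientGroup.mk_mul, QuotientGroup.mk_inv]
        rw [this]
        group
      rw [hperf.1] at h3
      rw [top_le_iff.1 h3, Subgroup.index_top] at hidx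
      omega

open Iface

/-- The odd core of a component of the centralizer of an involution is trivial, when this centralizer has
trivial odd core. -/
theorem oddCore_of_compOf {G : Type u} [Group G] [Finite G] {t : G} {K : Subgroup G}
    (hb : centralizerPPrimeCore 2 t = ⊥) (h : CompOf t K) : oddCore ↥K = ⊥ := by
  obtain ⟨h1, h2⟩ := h
  have e : ↥(K.subgroupOf (centralizer ({t} : Set G))) ≃* ↥K := Subgroup.subgroupOfEquivOfLe h1
  have h3 := Lib.PComponents.map_pPrimeCore_le_of_isSubnormal (p := 2) h2.1
  have h4 : pPrimeCore 2 ↥(centralizer ({t} : Set G)) = ⊥ := by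
    unfold centralizerPPrimeCore at hb
    exact (Subgroup.map_eq_bot_iff_of_injective _ (Subgroup.subtype_injective _)).1 hb
  rw [h4, le_bot_iff, Subgroup.map_eq_bot_iff_of_injective _ (Subgroup.subtype_injective _)] at h3
  have h5 := Lib.Cores.map_equiv_pPrimeCore e 2
  rw [h3, Subgroup.map_bot] at h5
  exact h5.symm

end Cfsg.Agent.OddHalf.RankOne
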